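import Mathlib
import Cfsg.Agent.Lib.Helper5.SumTwoSq

/-!
# Field-level lemmas for the rigidity of normalised automorphisms of `²G₂(q)`
-/

set_option autoImplicit false

namespace Cfsg.Agent.Lib.Helper5.ReeOut

variable {K : Type*} [Field K]

/-- an additive map which is semilinear for multiplications is a field automorphism up to a
constant -/
theorem exists_ringEquiv_of_semilinear [Finite K] (f : K → K)
    (hadd : ∀ a b, f (a + b) = f a + f b) (h1 : f 1 ≠ 0)
    (hmul : ∀ s : K, s ≠ 0 → ∃ μ : K, ∀ t, f (s * t) = μ * f t) :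
    ∃ σ : K ≃+* K, ∀ t, f t = f 1 * σ t := by
  have h0 : f 0 = 0 := by
    have := hadd 0 0
    rw [add_zero] at this
    exact left_eq_add.1 this
  have hmul' : ∀ s t : K, f (s * t) * f 1 = f s * f t := by
    intro s t
    by_cases hs : s = 0
    · subst hs
      rw [zero_mul, h0, zero_mul, zero_mul]
    · obtain ⟨μ, hμ⟩ := hmul s hs
      have e1 := hμ 1
      rw [mul_one] at e1
      rw [hμ t, e1]
      ring
  let g : K →+* K :=
    { toFun := fun t => f t / f 1
      map_one' := div_self h1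
      map_mul' := by
        intro s t
        show f (s * t) / f 1 = f s / f 1 * (f t / f 1)
        rw [div_mul_div_comm, ← hmul' s t, mul_div_mul_right _ _ h1]
      map_zero' := by
        show f 0 / f 1 = 0
        rw [h0, zero_div]
      map_add' := by
        intro s t
        show f (s + t) / f 1 = f s / f 1 + f t / f 1
        rw [hadd, add_div] }
  have hinj : Function.Injective g := g.injective
  have hbij : Function.Bijective g := ⟨hinj, Finite.injective_iff_surjective.1 hinj⟩
  refine ⟨RingEquiv.ofBijective g hbij, ?_⟩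
  intro t
  show f t = f 1 * (f t / f 1)
  field_simp

/-- an additive map which is linear for multiplications by squares is linear -/
theorem linear_of_sq [Fintype K] (hodd : Fintype.card K % 2 = 1) (f : K → K)
    (hadd : ∀ a b, f (a + b) = f a + f b)
    (hsq : ∀ r u : K, f (r ^ 2 * u) = r ^ 2 * f u) : ∀ u, f u = f 1 * u := by
  intro u
  obtain ⟨a, b, hab⟩ := Cfsg.Agent.Lib.Helper5.SumTwoSq.exists_sq_add_sq hodd u
  have e1 := hsq a 1
  have e2 := hsq b 1
  rw [mul_one] at e1 e2
  rw [← hab, hadd, e1, e2]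
  ring

/-- the coordinates of a normalised, torus-linear automorphism are rigid -/
theorem coords_rigid (P : K →+* K) (hP : ∃ s, P s ≠ s) (h3 : (3 : K) = 0)
    (c₁ c c₃ : K) (φ ψ : K → K)
    (hE2 : ∀ t t', φ (t + t') + c * (-(t * P t')) = φ t + φ t' - c₁ * t * P (c₁ * t'))
    (hE3 : ∀ t t', ψ (t + t') + c₃ * (t * P t' * t' - t ^ 2 * P t') =
      ψ t + ψ t' - φ t * (c₁ * t') + c₁ * t * P (c₁ * t') * (c₁ * t') -
        (c₁ * t) ^ 2 * P (c₁ * t'))
    (hφ : ∀ t, φ (-t) = φ t)
    (hψ : ∀ s : K, s ≠ 0 → ∀ t, ψ (s * t) = s ^ 2 * P s * ψ t) :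
    c = c₁ * P c₁ ∧ c₃ = c₁ ^ 2 * P c₁ ∧ (∀ t, φ t = 0) ∧ ∀ t, ψ t = 0 := by
  obtain ⟨s₀, hs₀⟩ := hP
  have hc : c = c₁ * P c₁ := by
    have e1 := hE2 s₀ 1
    have e2 := hE2 1 s₀
    rw [add_comm 1 s₀] at e2
    simp only [map_one, map_mul, mul_one, one_mul] at e1 e2
    have e3 : (c - c₁ * P c₁) * (P s₀ - s₀) = 0 := by linear_combination e1 - e2
    rcases mul_eq_zero.1 e3 with h | h
    · exact sub_eq_zero.1 h
    · exact absurd (sub_eq_zero.1 h) hs₀
  have hφ0 : φ 0 = 0 := by
    have := hE2 0 0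
    simp only [map_zero, mul_zero, neg_zero, add_zero, sub_zero] at this
    exact left_eq_add.1 this
  have hφz : ∀ t, φ t = 0 := by
    intro t
    have e1 := hE2 t (-t)
    rw [add_neg_cancel, hφ0, hφ, hc] at e1
    simp only [map_neg, map_mul] at e1
    have e2 : (2 : K) * φ t = 0 := by linear_combination -e1
    have e3 : φ t = 0 := by linear_combination (-1 : K) * e2 + φ t * h3
    exact e3
  have hE3' : ∀ t t', ψ (t + t') - ψ t - ψ t' =
      (c₁ ^ 2 * P c₁ - c₃) * (t * P t' * t' - t ^ 2 * P t') := by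
    intro t t'
    have := hE3 t t'
    rw [hφz t] at this
    simp only [map_mul] at this
    linear_combination this
  have hc3 : c₃ = c₁ ^ 2 * P c₁ := by
    have e1 := hE3' (-1) 1
    have e2 := hE3' 1 (-1)
    rw [add_comm 1 (-1)] at e2
    simp only [map_one, map_neg] at e1 e2
    have e3 : (4 : K) * (c₁ ^ 2 * P c₁ - c₃) = 0 := by linear_combination e1 - e2
    have e4 : c₁ ^ 2 * P c₁ - c₃ = 0 := by
      linear_combination e3 - (c₁ ^ 2 * P c₁ - c₃) * h3
    exact (sub_eq_zero.1 e4).symm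
  have hψadd : ∀ t t', ψ (t + t') = ψ t + ψ t' := by
    intro t t'
    have := hE3' t t'
    rw [hc3, sub_self, zero_mul] at this
    linear_combination this
  have hψ0 : ψ 0 = 0 := by
    have := hψadd 0 0
    rw [add_zero] at this
    exact left_eq_add.1 this
  have hψs : ∀ s, ψ s = s ^ 2 * P s * ψ 1 := by
    intro s
    by_cases hs : s = 0
    · subst hs
      rw [hψ0]
      ring
    · have := hψ s hs 1
      rwa [mul_one] at this
  have hd : ψ 1 = 0 := by
    by_contra hd
    have key : ∀ s : K, s ^ 2 + 2 * s * P s + 2 * s + P s = 0 := by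
      intro s
      have e1 := hψadd s 1
      rw [hψs (s + 1), hψs s] at e1
      simp only [map_add, map_one] at e1
      have e2 : ψ 1 * (s ^ 2 + 2 * s * P s + 2 * s + P s) = 0 := by linear_combination e1
      rcases mul_eq_zero.1 e2 with h | h
      · exact absurd h hd
      · exact h
    have e1 := key s₀
    have e2 := key (-s₀)
    simp only [map_neg] at e2
    have e3 : (4 : K) * s₀ + 2 * P s₀ = 0 := by linear_combination e1 - e2
    apply hs₀
    linear_combination (-1 : K) * e3 + (s₀ + P s₀) * h3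
  refine ⟨hc, hc3, hφz, ?_⟩
  intro t
  rw [hψs t, hd, mul_zero]

/-- the constants of a rigid automorphism -/
theorem consts_rigid [Fintype K] (h4 : Fintype.card K % 4 = 3) (P : K →+* K) (k : ℕ)
    (hPk : ∀ x, P x = x ^ (2 * k + 1)) (hPP : ∀ x, P (P x) = x ^ 3)
    (c₁ c c₃ : K) (hc : c = c₁ * P c₁) (hc3 : c₃ = c₁ ^ 2 * P c₁) (hc2 : c ^ 2 = 1) :
    c = 1 ∧ (c₁ = 1 ∨ c₁ = -1) ∧ c₃ = c₁ := by
  have hsq : IsSquare c := by
    refine ⟨c₁ ^ (k + 1), ?_⟩
    rw [hc, hPk]
    ring
  have hc1 : c = 1 := by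
    have : (c - 1) * (c + 1) = 0 := by linear_combination hc2
    rcases mul_eq_zero.1 this with h | h
    · exact sub_eq_zero.1 h
    · exfalso
      have hcm : c = -1 := by linear_combination h
      rw [hcm] at hsq
      have := FiniteField.isSquare_neg_one_iff.1 hsq
      omega
  have hc0 : c₁ ≠ 0 := by
    rintro rfl
    rw [zero_mul] at hc
    rw [hc] at hc1
    exact zero_ne_one hc1
  have hP1 : c₁ * P c₁ = 1 := by rw [← hc, hc1]
  have e1 : P c₁ * P (P c₁) = 1 := by
    rw [← map_mul, hP1, map_one]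
  rw [hPP] at e1
  have e2 : c₁ ^ 2 = 1 := by
    have : c₁ * (c₁ ^ 2 - 1) = 0 := by
      linear_combination c₁ * e1 - c₁ ^ 3 * hP1
    rcases mul_eq_zero.1 this with h | h
    · exact absurd h hc0
    · exact sub_eq_zero.1 h
  refine ⟨hc1, ?_, ?_⟩
  · have : (c₁ - 1) * (c₁ + 1) = 0 := by linear_combination e2
    rcases mul_eq_zero.1 this with h | h
    · left; exact sub_eq_zero.1 h
    · right; linear_combination h
  · rw [hc3]
    linear_combination c₁ * hP1

end Cfsg.Agent.Lib.Helper5.ReeOut
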