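import Mathlib

set_option autoImplicit false

/-!
Normalising an automorphism of a group with a split `(B, N)`-pair of rank one, abstractly.
-/

namespace Cfsg.Agent.Lib.Helper5.ReeOut

section abs

variable {G : Type*} [Group G]

/-- an automorphism preserving a subgroup -/
def Pres (β : MulAut G) (U : Subgroup G) : Prop := ∀ x, β x ∈ U ↔ x ∈ U

theorem Pres.mem {β : MulAut G} {U : Subgroup G} (h : Pres β U) {x : G} (hx : x ∈ U) : β x ∈ U :=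
  (h x).2 hx

theorem pres_conj_of_normalizes (U : Subgroup G) (b : G)
    (hb : ∀ x, x ∈ U ↔ b * x * b⁻¹ ∈ U) : Pres (MulAut.conj b) U := by
  intro x
  rw [MulAut.conj_apply]
  exact (hb x).symm

theorem Pres.mul {β γ : MulAut G} {U : Subgroup G} (hβ : Pres β U) (hγ : Pres γ U) :
    Pres (β * γ) U := by
  intro x
  rw [MulAut.mul_apply, hβ, hγ]

variable (U B H : Subgroup G) (n : G)
  (hSyl : ∀ α : MulAut G, ∃ g : G, Pres (MulAut.conj g * α) U)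
  (hN : ∀ g s : G, s ∈ U → s ≠ 1 → g * s * g⁻¹ ∈ U → g ∈ B)
  (hBU : ∀ b ∈ B, ∀ x, x ∈ U ↔ b * x * b⁻¹ ∈ U)
  (hBr : ∀ g : G, g ∈ B ∨ ∃ b ∈ B, ∃ v ∈ U, g = b * n * v)
  (hH : ∀ b ∈ B, n * b * n⁻¹ ∈ B → b ∈ H)
  (hHB : H ≤ B) (hn2 : n * n ∈ H) (hnB : n ∉ B) (hU1 : ∃ s ∈ U, s ≠ 1)

include hSyl hN hBU hBr hH hHB hn2 hnB hU1 in
/-- every automorphism is, up to an inner automorphism, normalised -/
theorem exists_normalized_abs (α : MulAut G) :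
    ∃ (g : G) (β : MulAut G), β = MulAut.conj g * α ∧ Pres β U ∧
      Pres β (U.map (MulAut.conj n).toMonoidHom) ∧ n⁻¹ * β n ∈ H := by
  obtain ⟨s₀, hs₀, hs₀1⟩ := hU1
  have hmemV : ∀ x : G, x ∈ U.map (MulAut.conj n).toMonoidHom ↔ n⁻¹ * x * n ∈ U := by
    intro x
    constructor
    · rintro ⟨y, hy, rfl⟩
      show n⁻¹ * (n * y * n⁻¹) * n ∈ U
      have : n⁻¹ * (n * y * n⁻¹) * n = y := by group
      rw [this]
      exact hy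
    · intro hx
      refine ⟨n⁻¹ * x * n, hx, ?_⟩
      show n * (n⁻¹ * x * n) * n⁻¹ = x
      group
  -- step 1
  obtain ⟨g₁, hg₁⟩ := hSyl α
  obtain ⟨α₁, hα₁⟩ : ∃ α₁, α₁ = MulAut.conj g₁ * α := ⟨_, rfl⟩
  rw [← hα₁] at hg₁
  -- step 2
  obtain ⟨g₂, hg₂⟩ := hSyl (α₁ * MulAut.conj n)
  have hg₂' : ∀ x, g₂ * α₁ (n * x * n⁻¹) * g₂⁻¹ ∈ U ↔ x ∈ U := hg₂
  have hg₂B : g₂⁻¹ ∉ B := by
    intro hB
    apply hnB
    -- then `α₁ (n U n⁻¹) = U`, so `n` normalises `U`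
    have h1 : ∀ x, α₁ (n * x * n⁻¹) ∈ U ↔ x ∈ U := by
      intro x
      rw [← hg₂' x, hBU g₂⁻¹ hB (g₂ * α₁ (n * x * n⁻¹) * g₂⁻¹)]
      have : g₂⁻¹ * (g₂ * α₁ (n * x * n⁻¹) * g₂⁻¹) * g₂⁻¹⁻¹ = α₁ (n * x * n⁻¹) := by group
      rw [this]
    have h2 : n * s₀ * n⁻¹ ∈ U := by
      rw [← hg₁, h1]
      exact hs₀
    exact hN n s₀ hs₀ hs₀1 h2
  rcases hBr g₂⁻¹ with h | ⟨b, hb, v, hv, e⟩
  · exact absurd h hg₂B
  obtain ⟨α₂, hα₂⟩ : ∃ α₂, α₂ = MulAut.conj b⁻¹ * α₁ := ⟨_, rfl⟩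
  have hbinv : ∀ x, x ∈ U ↔ b⁻¹ * x * b⁻¹⁻¹ ∈ U := hBU b⁻¹ (B.inv_mem hb)
  have hα₂U : Pres α₂ U := by
    rw [hα₂]
    exact (pres_conj_of_normalizes U b⁻¹ hbinv).mul hg₁
  have hα₂V : Pres α₂ (U.map (MulAut.conj n).toMonoidHom) := by
    intro x
    rw [hmemV, hmemV]
    -- `x = n y n⁻¹`
    have hx : x = n * (n⁻¹ * x * n) * n⁻¹ := by group
    rw [← hg₂' (n⁻¹ * x * n), ← hx]
    have e2 : g₂ = v⁻¹ * n⁻¹ * b⁻¹ := by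
      have : g₂ = (g₂⁻¹)⁻¹ := (inv_inv g₂).symm
      rw [this, e]
      group
    have e3 : n⁻¹ * α₂ x * n = v * (g₂ * α₁ x * g₂⁻¹) * v⁻¹ := by
      rw [hα₂, MulAut.mul_apply, MulAut.conj_apply, e2]
      group
    rw [e3]
    constructor
    · intro h
      have h2 := U.mul_mem (U.mul_mem (U.inv_mem hv) h) hv
      have : v⁻¹ * (v * (g₂ * α₁ x * g₂⁻¹) * v⁻¹) * v = g₂ * α₁ x * g₂⁻¹ := by group
      rw [this] at h2
      exact h2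
    · intro h
      exact U.mul_mem (U.mul_mem hv h) (U.inv_mem hv)
  refine ⟨b⁻¹ * g₁, α₂, ?_, hα₂U, hα₂V, ?_⟩
  · rw [hα₂, hα₁, map_mul, mul_assoc]
  -- step 3
  have hc1 : n⁻¹ * α₂ n ∈ B := by
    apply hN _ s₀ hs₀ hs₀1
    -- `α₂ n U (α₂ n)⁻¹ = V`
    obtain ⟨y, hy⟩ : ∃ y, α₂ y = s₀ := α₂.surjective s₀
    have hyU : y ∈ U := (hα₂U y).1 (by rw [hy]; exact hs₀)
    have h1 : α₂ (n * y * n⁻¹) ∈ U.map (MulAut.conj n).toMonoidHom := by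
      apply hα₂V.mem
      rw [hmemV]
      have : n⁻¹ * (n * y * n⁻¹) * n = y := by group
      rw [this]
      exact hyU
    rw [hmemV, map_mul, map_mul, map_inv, hy] at h1
    have : n⁻¹ * α₂ n * s₀ * (n⁻¹ * α₂ n)⁻¹ = n⁻¹ * (α₂ n * s₀ * (α₂ n)⁻¹) * n := by group
    rw [this]
    exact h1
  apply hH _ hc1
  -- `n (n⁻¹ α₂ n) n⁻¹ = α₂ n n⁻¹`, and `α₂ n · n ∈ B`
  have hc2 : α₂ n * n ∈ B := by
    apply hN _ s₀ hs₀ hs₀1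
    -- `α₂ n V (α₂ n)⁻¹ = U`
    obtain ⟨y, hy⟩ : ∃ y, α₂ y = n * s₀ * n⁻¹ := α₂.surjective _
    have hyV : y ∈ U.map (MulAut.conj n).toMonoidHom := by
      apply (hα₂V y).1
      rw [hy, hmemV]
      have : n⁻¹ * (n * s₀ * n⁻¹) * n = s₀ := by group
      rw [this]
      exact hs₀
    rw [hmemV] at hyV
    -- `n y n⁻¹ = (n n) (n⁻¹ y n) (n n)⁻¹ ∈ U`
    have h2 : n * y * n⁻¹ ∈ U := by
      have h3 := (hBU (n * n) (hHB hn2) (n⁻¹ * y * n)).1 hyV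
      have : n * n * (n⁻¹ * y * n) * (n * n)⁻¹ = n * y * n⁻¹ := by group
      rw [this] at h3
      exact h3
    have h4 := hα₂U.mem h2
    rw [map_mul, map_mul, map_inv, hy] at h4
    have : α₂ n * n * s₀ * (α₂ n * n)⁻¹ = α₂ n * (n * s₀ * n⁻¹) * (α₂ n)⁻¹ := by group
    rw [this]
    exact h4
  have e5 : n * (n⁻¹ * α₂ n) * n⁻¹ = α₂ n * n * (n * n)⁻¹ := by group
  rw [e5]
  exact B.mul_mem hc2 (B.inv_mem (hHB hn2))

end abs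

end Cfsg.Agent.Lib.Helper5.ReeOut
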