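import Mathlib
import Cfsg.Prelude.Def_ChevStructure
import Cfsg.Prelude.Def_LieTwisted
import Cfsg.Agent.Lib.Helper5.ReeCent.CentE1
import Cfsg.Agent.Lib.Helper5.Ree.SylowTI
import Cfsg.Agent.Lib.Helper5.Ree.TwoGen
import Cfsg.Agent.Lib.Helper5.ReeOut.NormAbs

set_option autoImplicit false

/-!
The subgroups `U¹`, `B¹`, `H¹` and the element `n₀` of the Ree group `²G₂(q)`, as parts of the
group itself, with the facts needed to normalise an automorphism.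
-/

namespace Cfsg.Agent.Lib.Helper5.ReeOut

open Cfsg Cfsg.Lie Cfsg.Agent.Lib.Helper5.ChevSym Cfsg.Agent.Lib.Helper5.ChevSymP
  Cfsg.Agent.Lib.Helper5.ChevStruct Cfsg.Agent.Lib.Helper5.Ree Cfsg.Agent.Lib.Helper5.PSL2Solv
  Cfsg.Agent.Lib.Helper5.ReeCent Cfsg.Agent.Lib.Helper5.ReeTori

variable {K : Type*} [Field K] [CharP K 3] (m : ℕ) [Fintype K]
  (hq : ∀ x : K, x ^ 3 ^ (2 * m + 1) = x)

/-- the elements of `U¹` -/
noncomputable def aU (t u v : K) : ↥(twistedG2 K (3 ^ m)) := ⟨al m t u v, reeU_mem_twisted m t u v⟩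

omit [Fintype K] [CharP K 3] in
theorem aU_coe (t u v : K) : ((aU m t u v : ↥(twistedG2 K (3 ^ m))) : GL chevG2.Idx K) = al m t u v :=
  rfl

/-- the elements of `H¹` -/
noncomputable def hT (z : Kˣ) : ↥(twistedG2 K (3 ^ m)) := ⟨hz m z, hz_mem_twisted m hq z⟩

omit [Fintype K] in
theorem hT_coe (z : Kˣ) : ((hT m hq z : ↥(twistedG2 K (3 ^ m))) : GL chevG2.Idx K) = hz m z := rfl

/-- the Weyl element -/
noncomputable def nW : ↥(twistedG2 K (3 ^ m)) := ⟨n0 K, n0_mem_twisted m⟩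

omit [Fintype K] in
theorem nW_coe : ((nW m : ↥(twistedG2 K (3 ^ m))) : GL chevG2.Idx K) = n0 K := rfl

/-- `U¹` -/
def UU : Subgroup ↥(twistedG2 K (3 ^ m)) :=
  (chevG2.posUnipotent K).subgroupOf (twistedG2 K (3 ^ m))

/-- `B¹` -/
def BB : Subgroup ↥(twistedG2 K (3 ^ m)) :=
  (chevG2.borelSubgroup K).subgroupOf (twistedG2 K (3 ^ m))

omit [Fintype K] [CharP K 3] in
theorem mem_UU (x : ↥(twistedG2 K (3 ^ m))) :
    x ∈ UU m ↔ (x : GL chevG2.Idx K) ∈ chevG2.posUnipotent K := Subgroup.mem_subgroupOf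

omit [Fintype K] [CharP K 3] in
theorem mem_BB (x : ↥(twistedG2 K (3 ^ m))) :
    x ∈ BB m ↔ (x : GL chevG2.Idx K) ∈ chevG2.borelSubgroup K := Subgroup.mem_subgroupOf

omit [Fintype K] in
include hq in
theorem coe_mem_fixG (x : ↥(twistedG2 K (3 ^ m))) : (x : GL chevG2.Idx K) ∈ fixG m :=
  twisted_le_fixG m hq x.2

include hq in
theorem mem_UU_iff (x : ↥(twistedG2 K (3 ^ m))) : x ∈ UU m ↔ ∃ t u v : K, x = aU m t u v := by
  rw [mem_UU]
  constructor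
  · intro hx
    obtain ⟨t, u, v, e⟩ := (pos_fix_iff m hq _).1 (Subgroup.mem_inf.2 ⟨hx, coe_mem_fixG m hq x⟩)
    exact ⟨t, u, v, Subtype.ext e⟩
  · rintro ⟨t, u, v, rfl⟩
    exact al_mem_pos m t u v

omit [Fintype K] in
theorem aU_mem (t u v : K) : aU m t u v ∈ UU m := (mem_UU m _).2 (al_mem_pos m t u v)

theorem aU_injective (t u v t' u' v' : K) (h : aU m t u v = aU m t' u' v') :
    t = t' ∧ u = u' ∧ v = v' :=
  al_injective m _ _ _ _ _ _ (congrArg Subtype.val h)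

include hq in
theorem aU_mul (t u v t' u' v' : K) :
    aU m t u v * aU m t' u' v' = aU m (t + t') (u + u' - t * (ph m t') ^ 3)
      (v + v' - u * t' + t * (ph m t') ^ 3 * t' - t ^ 2 * (ph m t') ^ 3) :=
  Subtype.ext (al_mul m hq t u v t' u' v')

omit [Fintype K] in
include hq in
theorem mem_H0_iff (x : ↥(twistedG2 K (3 ^ m))) : x ∈ H0 m ↔ ∃ z : Kˣ, x = hT m hq z := by
  rw [mem_H0, diag_fix_iff m hq]
  constructor
  · rintro ⟨z, hz⟩
    exact ⟨z, Subtype.ext hz⟩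
  · rintro ⟨z, rfl⟩
    exact ⟨z, rfl⟩

omit [Fintype K] in
theorem hT_mem (z : Kˣ) : hT m hq z ∈ H0 m := (mem_H0_iff m hq _).2 ⟨z, rfl⟩

omit [Fintype K] in
theorem hT_mul (z z' : Kˣ) : hT m hq (z * z') = hT m hq z * hT m hq z' :=
  Subtype.ext (map_mul (hz m) z z')

omit [Fintype K] in
theorem hT_one : hT m hq 1 = 1 := Subtype.ext (map_one (hz m))

omit [Fintype K] in
theorem hT_inv (z : Kˣ) : hT m hq z⁻¹ = (hT m hq z)⁻¹ := Subtype.ext (map_inv (hz m) z)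

omit [Fintype K] in
theorem hT_injective : Function.Injective (hT m hq) := by
  intro z z' h
  exact hz_injective m (congrArg Subtype.val h)

include hq in
theorem hT_conj_aU (z : Kˣ) (t u v : K) :
    hT m hq z * aU m t u v * (hT m hq z)⁻¹ =
      aU m (chi chevG2 (hzF m z) 6 * t) (chi chevG2 (hzF m z) 10 * u) ((z : K) * v) :=
  Subtype.ext (hz_conj_al m hq z t u v)

omit [Fintype K] in
theorem H0_le_BB : H0 (K := K) m ≤ BB m := by
  intro x hx
  rw [mem_BB]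
  exact diagonal_le_borel chevG2 (Subgroup.mem_inf.1 ((mem_H0 m x).1 hx)).1

omit [Fintype K] [CharP K 3] in
theorem UU_le_BB : UU (K := K) m ≤ BB m := by
  intro x hx
  rw [mem_BB]
  exact pos_le_borel chevG2 ((mem_UU m x).1 hx)

omit [Fintype K] in
include hq in
/-- if `U¹` meets its conjugate under `g` non-trivially, then `g ∈ B¹` -/
theorem mem_BB_of_conj (g s : ↥(twistedG2 K (3 ^ m))) (hs : s ∈ UU m) (hs1 : s ≠ 1)
    (hc : g * s * g⁻¹ ∈ UU m) : g ∈ BB m := by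
  rw [mem_BB]
  have h1 := ti_aux m hq (g : GL chevG2.Idx K) ((g * s * g⁻¹ : ↥(twistedG2 K (3 ^ m))) : GL chevG2.Idx K)
    (s : GL chevG2.Idx K) (coe_mem_fixG m hq g)
    (Subgroup.mem_inf.2 ⟨(mem_UU m _).1 hc, coe_mem_fixG m hq _⟩)
    (Subgroup.mem_inf.2 ⟨(mem_UU m _).1 hs, coe_mem_fixG m hq _⟩) rfl ?_
  · exact (Subgroup.mem_inf.1 h1).1
  · intro h
    apply hs1
    have h2 : g * s * g⁻¹ = 1 := Subtype.ext h
    have : s = g⁻¹ * (g * s * g⁻¹) * g := by group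
    rw [this, h2]
    group

omit [Fintype K] [CharP K 3] in
/-- `B¹` normalises `U¹` -/
theorem BB_normalizes (b : ↥(twistedG2 K (3 ^ m))) (hb : b ∈ BB m) (x : ↥(twistedG2 K (3 ^ m))) :
    x ∈ UU m ↔ b * x * b⁻¹ ∈ UU m := by
  rw [mem_UU, mem_UU]
  have hn := borel_le_normalizer_pos (F := K) chevG2 hG2 ((mem_BB m b).1 hb)
  exact Subgroup.mem_normalizer_iff.1 hn _

include hq in
/-- the decomposition `B¹ = U¹ H¹` -/
theorem BB_decomp (b : ↥(twistedG2 K (3 ^ m))) (hb : b ∈ BB m) :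
    ∃ u ∈ UU m, ∃ h ∈ H0 m, b = u * h := by
  obtain ⟨u, hu, h, hh, e⟩ := borel_fix m (b : GL chevG2.Idx K) ((mem_BB m b).1 hb)
    (coe_mem_fixG m hq b)
  have huT : u ∈ twistedG2 K (3 ^ m) := by
    rw [twisted_eq_fixG m hq]
    exact (Subgroup.mem_inf.1 hu).2
  have hhT : h ∈ twistedG2 K (3 ^ m) := by
    rw [twisted_eq_fixG m hq]
    exact (Subgroup.mem_inf.1 hh).2
  refine ⟨⟨u, huT⟩, (mem_UU m _).2 (Subgroup.mem_inf.1 hu).1, ⟨h, hhT⟩, (mem_H0 m _).2 hh, ?_⟩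
  exact Subtype.ext e

include hq in
/-- the Bruhat decomposition -/
theorem bruhat (g : ↥(twistedG2 K (3 ^ m))) :
    g ∈ BB m ∨ ∃ b ∈ BB m, ∃ v ∈ UU m, g = b * nW m * v := by
  rcases cell_fix m (n0_mem_fixG m hq).2 (g : GL chevG2.Idx K) (coe_mem_fixG m hq g) with
    h | ⟨b, hb, v, hv, e⟩
  · exact Or.inl ((mem_BB m g).2 h)
  · right
    have hbT : b ∈ twistedG2 K (3 ^ m) := by
      rw [twisted_eq_fixG m hq]
      exact (Subgroup.mem_inf.1 hb).2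
    have hvT : v ∈ twistedG2 K (3 ^ m) := by
      rw [twisted_eq_fixG m hq]
      exact (Subgroup.mem_inf.1 hv).2
    refine ⟨⟨b, hbT⟩, (mem_BB m _).2 (Subgroup.mem_inf.1 hb).1, ⟨v, hvT⟩,
      (mem_UU m _).2 (Subgroup.mem_inf.1 hv).1, ?_⟩
    exact Subtype.ext e

include hq in
/-- `B¹ ∩ n₀⁻¹ B¹ n₀ = H¹` -/
theorem mem_H0_of_conj (b : ↥(twistedG2 K (3 ^ m))) (hb : b ∈ BB m)
    (hc : nW m * b * (nW m)⁻¹ ∈ BB m) : b ∈ H0 m := by
  obtain ⟨u, hu, h, hh, rfl⟩ := BB_decomp m hq b hb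
  have h1 : n0 K * (u : GL chevG2.Idx K) * (n0 K)⁻¹ ∈ chevG2.negUnipotent K := by
    rw [← (conj_pos_eq_neg' (K := K) chevG2 hG2 w0 checkW0_w0).2]
    exact Subgroup.mem_map.2 ⟨_, (mem_UU m u).1 hu, rfl⟩
  have h2 : n0 K * (h : GL chevG2.Idx K) * (n0 K)⁻¹ ∈ chevG2.diagonalSubgroup K := by
    rw [← diagonal_map_conj chevG2 hG2 (n0 K) n0_mem_mono]
    exact Subgroup.mem_map.2 ⟨_, (Subgroup.mem_inf.1 ((mem_H0 m h).1 hh)).1, rfl⟩
  have h3 : n0 K * ((u : GL chevG2.Idx K) * (h : GL chevG2.Idx K)) * (n0 K)⁻¹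
      ∈ chevG2.borelSubgroup K := (mem_BB m _).1 hc
  have h4 : n0 K * (u : GL chevG2.Idx K) * (n0 K)⁻¹ ∈ chevG2.borelSubgroup K := by
    have e : n0 K * (u : GL chevG2.Idx K) * (n0 K)⁻¹ =
        n0 K * ((u : GL chevG2.Idx K) * (h : GL chevG2.Idx K)) * (n0 K)⁻¹ *
          (n0 K * (h : GL chevG2.Idx K) * (n0 K)⁻¹)⁻¹ := by group
    rw [e]
    exact mul_mem h3 (inv_mem (diagonal_le_borel chevG2 h2))
  have h5 : n0 K * (u : GL chevG2.Idx K) * (n0 K)⁻¹ ∈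
      chevG2.borelSubgroup K ⊓ chevG2.negUnipotent K := Subgroup.mem_inf.2 ⟨h4, h1⟩
  rw [borel_inf_neg chevG2 hG2, Subgroup.mem_bot] at h5
  have hu1 : u = 1 := by
    apply Subtype.ext
    have : (u : GL chevG2.Idx K) = (n0 K)⁻¹ * (n0 K * (u : GL chevG2.Idx K) * (n0 K)⁻¹) * n0 K := by
      group
    rw [this, h5]
    show (n0 K)⁻¹ * 1 * n0 K = 1
    group
  rw [hu1, one_mul]
  exact hh

omit [Fintype K] in
include hq in
theorem nW_sq_mem : nW (K := K) m * nW m ∈ H0 m := by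
  rw [mem_H0]
  exact Subgroup.mem_inf.2 ⟨n0_sq_mem, mul_mem (n0_mem_fixG m hq) (n0_mem_fixG m hq)⟩

omit [Fintype K] in
theorem nW_not_mem : nW (K := K) m ∉ BB m := by
  rw [mem_BB]
  exact n0_not_mem_borel

theorem aU_ne_one : aU (K := K) m 1 0 0 ≠ 1 := by
  intro h
  have h1 : al m (1 : K) 0 0 = 1 := congrArg Subtype.val h
  rw [al_eq_one_iff] at h1
  exact one_ne_zero h1.1

include hq in
theorem card_UU : Nat.card ↥(UU (K := K) m) = Fintype.card K ^ 3 := by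
  unfold UU
  rw [← Subgroup.inf_subgroupOf_right,
    Nat.card_congr (Subgroup.subgroupOfEquivOfLe inf_le_right).toEquiv, pos_inf_twisted m hq,
    card_pos_fix m hq]

variable (hK : Fintype.card K = 3 ^ (2 * m + 1))

include hK in
theorem finite_twisted : Finite ↥(twistedG2 K (3 ^ m)) := by
  apply Nat.finite_of_card_ne_zero
  rw [card_twistedG2_eq m hK]
  have h3 : 3 ^ 1 ≤ 3 ^ (2 * m + 1) := Nat.pow_le_pow_right (by norm_num) (by omega)
  have h4 : 0 < 3 ^ (2 * m + 1) - 1 := by omega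
  have h5 : 0 < (3 ^ (2 * m + 1)) ^ 3 := Nat.pow_pos (by omega)
  exact (Nat.mul_pos (Nat.mul_pos h5 h4) (Nat.succ_pos _)).ne'

include hK in
theorem card_UU_eq : Nat.card ↥(UU (K := K) m) =
    3 ^ (Nat.card ↥(twistedG2 K (3 ^ m))).factorization 3 := by
  have hq := pow_card_eq hK
  have h1 := factorization_card_fixG m hq hK
  rw [← twisted_eq_fixG m hq] at h1
  rw [h1, card_UU m hq, hK, ← pow_mul, mul_comm]

include hK in
/-- every automorphism maps `U¹` to a conjugate of `U¹` -/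
theorem exists_pres_UU (α : MulAut ↥(twistedG2 K (3 ^ m))) :
    ∃ g : ↥(twistedG2 K (3 ^ m)), Pres (MulAut.conj g * α) (UU m) := by
  have := finite_twisted m hK
  have hc := card_UU_eq m hK
  have hc' : Nat.card ↥((UU (K := K) m).map α.toMonoidHom) =
      3 ^ (Nat.card ↥(twistedG2 K (3 ^ m))).factorization 3 := by
    rw [Subgroup.card_map_of_injective α.injective, hc]
  let P : Sylow 3 ↥(twistedG2 K (3 ^ m)) := Sylow.ofCard (UU m) hc
  let Q : Sylow 3 ↥(twistedG2 K (3 ^ m)) := Sylow.ofCard ((UU m).map α.toMonoidHom) hc'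
  obtain ⟨g, hg⟩ := MulAction.exists_smul_eq ↥(twistedG2 K (3 ^ m)) Q P
  refine ⟨g, ?_⟩
  intro x
  rw [MulAut.mul_apply, MulAut.conj_apply]
  have hP : (P : Subgroup ↥(twistedG2 K (3 ^ m))) = UU m := Sylow.coe_ofCard _ _
  have hQ : (Q : Subgroup ↥(twistedG2 K (3 ^ m))) = (UU m).map α.toMonoidHom :=
    Sylow.coe_ofCard _ _
  have h1 : g * α x * g⁻¹ ∈ UU m ↔
      g * α x * g⁻¹ ∈ ((g • Q : Sylow 3 ↥(twistedG2 K (3 ^ m))) :
        Subgroup ↥(twistedG2 K (3 ^ m))) := by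
    rw [hg, hP]
  rw [h1, Sylow.coe_subgroup_smul, Subgroup.mem_pointwise_smul_iff_inv_smul_mem, hQ]
  have e : (MulAut.conj g)⁻¹ • (g * α x * g⁻¹) = α x := by
    rw [← map_inv, MulAut.smul_def, MulAut.conj_apply]
    group
  rw [e]
  constructor
  · rintro ⟨y, hy, hyx⟩
    have : y = x := α.injective hyx
    rw [← this]
    exact hy
  · intro hx
    exact ⟨x, hx, rfl⟩

end Cfsg.Agent.Lib.Helper5.ReeOut
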