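import Mathlib
import Cfsg.Prelude.Def_ChevStructure
import Cfsg.Prelude.Def_LieTwisted
import Cfsg.Agent.Lib.Helper5.ReeOut.Elts
import Cfsg.Agent.Lib.Helper5.ReeCent.Iso

set_option autoImplicit false

/-!
Normalising an automorphism of the Ree group `²G₂(q)`: up to an inner automorphism it preserves
`U¹` and `V¹` and fixes `n₀`.
-/

namespace Cfsg.Agent.Lib.Helper5.ReeOut

open Cfsg Cfsg.Lie Cfsg.Agent.Lib.Helper5.ChevSym Cfsg.Agent.Lib.Helper5.ChevSymP
  Cfsg.Agent.Lib.Helper5.ChevStruct Cfsg.Agent.Lib.Helper5.Ree Cfsg.Agent.Lib.Helper5.PSL2Solv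
  Cfsg.Agent.Lib.Helper5.ReeCent Cfsg.Agent.Lib.Helper5.ReeTori

section generic

variable {G : Type*} [Group G]

theorem Pres.inf {β : MulAut G} {A B : Subgroup G} (hA : Pres β A) (hB : Pres β B) :
    Pres β (A ⊓ B) := by
  intro x
  rw [Subgroup.mem_inf, Subgroup.mem_inf, hA, hB]

theorem Pres.normalizer {β : MulAut G} {A : Subgroup G} (hA : Pres β A) :
    Pres β (Subgroup.normalizer (A : Set G)) := by
  intro x
  rw [Subgroup.mem_normalizer_iff, Subgroup.mem_normalizer_iff]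
  constructor
  · intro h y
    have := h (β y)
    rw [hA, ← map_inv, ← map_mul, ← map_mul, hA] at this
    exact this
  · intro h y
    obtain ⟨y', rfl⟩ := β.surjective y
    rw [hA, ← map_inv, ← map_mul, ← map_mul, hA]
    exact h y'

theorem Pres.centralizer {β : MulAut G} {a : G} (ha : β a = a) :
    Pres β (Subgroup.centralizer {a}) := by
  intro x
  rw [Subgroup.mem_centralizer_singleton_iff, Subgroup.mem_centralizer_singleton_iff]
  constructor
  · intro h
    apply β.injective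
    rw [map_mul, map_mul, ha]
    exact h
  · intro h
    have := congrArg β h
    rw [map_mul, map_mul, ha] at this
    exact this

theorem Pres.inv {β : MulAut G} {A : Subgroup G} (hA : Pres β A) : Pres β⁻¹ A := by
  intro x
  have := hA (β⁻¹ x)
  rw [MulAut.apply_inv_self] at this
  exact this.symm

end generic

section field

variable {F : Type*} [Field F] [Fintype F]

theorem exists_sq_eq_or_neg (h4 : Fintype.card F % 4 = 3) (p : F) (hp : p ≠ 0) :
    ∃ r : F, r ^ 2 = p ∨ r ^ 2 = -p := by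
  classical
  by_cases hsq : IsSquare p
  · obtain ⟨r, hr⟩ := hsq
    exact ⟨r, Or.inl (by rw [hr, pow_two])⟩
  · have h1 : quadraticChar F p = -1 := quadraticChar_neg_one_iff_not_isSquare.2 hsq
    have h2 : quadraticChar F (-1) = -1 := by
      rw [quadraticChar_neg_one_iff_not_isSquare, FiniteField.isSquare_neg_one_iff]
      omega
    have h3 : quadraticChar F (-p) = 1 := by
      have : -p = (-1) * p := by ring
      rw [this, map_mul, h1, h2]
      norm_num
    obtain ⟨r, hr⟩ := (quadraticChar_one_iff_isSquare (neg_ne_zero.2 hp)).1 h3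
    exact ⟨r, Or.inr (by rw [hr, pow_two])⟩

end field

variable {K : Type*} [Field K] [CharP K 3] (m : ℕ) [Fintype K]
  (hq : ∀ x : K, x ^ 3 ^ (2 * m + 1) = x)

/-- `V¹ = n₀ U¹ n₀⁻¹` -/
noncomputable def VV : Subgroup ↥(twistedG2 K (3 ^ m)) := (UU m).map (MulAut.conj (nW m)).toMonoidHom

omit [Fintype K] in
theorem mem_VV (x : ↥(twistedG2 K (3 ^ m))) : x ∈ VV m ↔ (nW m)⁻¹ * x * nW m ∈ UU m := by
  constructor
  · rintro ⟨y, hy, rfl⟩
    show (nW m)⁻¹ * (nW m * y * (nW m)⁻¹) * nW m ∈ UU m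
    have : (nW m)⁻¹ * (nW m * y * (nW m)⁻¹) * nW m = y := by group
    rw [this]
    exact hy
  · intro hx
    refine ⟨(nW m)⁻¹ * x * nW m, hx, ?_⟩
    show nW m * ((nW m)⁻¹ * x * nW m) * (nW m)⁻¹ = x
    group

include hq in
theorem BB_eq_normalizer :
    BB (K := K) m = Subgroup.normalizer ((UU (K := K) m : Subgroup ↥(twistedG2 K (3 ^ m))) : Set ↥(twistedG2 K (3 ^ m))) := by
  ext x
  rw [Subgroup.mem_normalizer_iff]
  constructor
  · intro hx y
    exact BB_normalizes m x hx y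
  · intro h
    exact mem_BB_of_conj m hq x _ (aU_mem m 1 0 0) (aU_ne_one m) ((h _).1 (aU_mem m 1 0 0))

omit [Fintype K] in
include hq in
theorem nW_inv_conj_mem_H0 (x : ↥(twistedG2 K (3 ^ m))) (hx : x ∈ H0 m) :
    (nW m)⁻¹ * x * nW m ∈ H0 m := by
  rw [mem_H0] at hx ⊢
  have hn : (n0 K)⁻¹ ∈ chevG2.monomialSubgroup K := inv_mem n0_mem_mono
  have h2 : (n0 K)⁻¹ * (x : GL chevG2.Idx K) * (n0 K)⁻¹⁻¹ ∈ chevG2.diagonalSubgroup K := by
    rw [← diagonal_map_conj chevG2 hG2 (n0 K)⁻¹ hn]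
    exact Subgroup.mem_map.2 ⟨_, (Subgroup.mem_inf.1 hx).1, rfl⟩
  rw [inv_inv] at h2
  exact Subgroup.mem_inf.2 ⟨h2, mul_mem (mul_mem (inv_mem (n0_mem_fixG m hq)) (Subgroup.mem_inf.1 hx).2)
    (n0_mem_fixG m hq)⟩

include hq in
theorem H0_eq_inf : H0 (K := K) m =
    BB m ⊓ Subgroup.normalizer ((VV (K := K) m : Subgroup ↥(twistedG2 K (3 ^ m))) : Set ↥(twistedG2 K (3 ^ m))) := by
  ext x
  rw [Subgroup.mem_inf, Subgroup.mem_normalizer_iff]
  constructor
  · intro hx
    refine ⟨H0_le_BB m hx, ?_⟩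
    intro y
    rw [mem_VV, mem_VV]
    have h1 := H0_le_BB m (nW_inv_conj_mem_H0 m hq x hx)
    have h2 := BB_normalizes m _ h1 ((nW m)⁻¹ * y * nW m)
    have e : (nW m)⁻¹ * x * nW m * ((nW m)⁻¹ * y * nW m) * ((nW m)⁻¹ * x * nW m)⁻¹ =
        (nW m)⁻¹ * (x * y * x⁻¹) * nW m := by group
    rw [e] at h2
    exact h2
  · rintro ⟨hx, hN⟩
    apply mem_H0_of_conj m hq x hx
    -- `n₀⁻¹ x n₀` normalises `U¹`
    have h1 : (nW m)⁻¹ * x * nW m ∈ BB m := by
      rw [BB_eq_normalizer m hq, Subgroup.mem_normalizer_iff]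
      intro y
      have h2 := hN (nW m * y * (nW m)⁻¹)
      rw [mem_VV, mem_VV] at h2
      have e1 : (nW m)⁻¹ * (nW m * y * (nW m)⁻¹) * nW m = y := by group
      have e2 : (nW m)⁻¹ * (x * (nW m * y * (nW m)⁻¹) * x⁻¹) * nW m =
          (nW m)⁻¹ * x * nW m * y * ((nW m)⁻¹ * x * nW m)⁻¹ := by group
      rw [e1, e2] at h2
      exact h2
    have h3 := H0_le_BB m (nW_sq_mem m hq)
    have e : nW m * x * (nW m)⁻¹ =
        nW m * nW m * ((nW m)⁻¹ * x * nW m) * (nW m * nW m)⁻¹ := by group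
    rw [e]
    exact (BB m).mul_mem ((BB m).mul_mem h3 h1) ((BB m).inv_mem h3)

include hq in
theorem pres_H0 (β : MulAut ↥(twistedG2 K (3 ^ m))) (hU : Pres β (UU m)) (hV : Pres β (VV m)) :
    Pres β (H0 m) := by
  rw [H0_eq_inf m hq, BB_eq_normalizer m hq]
  exact hU.normalizer.inf hV.normalizer

omit [Fintype K] in
include hq in
/-- the involution of `H¹` -/
theorem eq_hT_neg_one (x : ↥(twistedG2 K (3 ^ m))) (hx : x ∈ H0 m) (hx2 : x * x = 1)
    (hx1 : x ≠ 1) : x = hT m hq (-1) := by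
  obtain ⟨z, rfl⟩ := (mem_H0_iff m hq x).1 hx
  rw [← hT_mul, ← hT_one m hq] at hx2
  have h1 : z * z = 1 := hT_injective m hq hx2
  have h2 : ((z : K) - 1) * ((z : K) + 1) = 0 := by
    have := congrArg (fun u : Kˣ => (u : K)) h1
    simp only [Units.val_mul, Units.val_one] at this
    linear_combination this
  rcases mul_eq_zero.1 h2 with h | h
  · exfalso
    apply hx1
    have : z = 1 := Units.ext (by rw [Units.val_one]; linear_combination h)
    rw [this, hT_one]
  · have : z = -1 := Units.ext (by rw [Units.val_neg, Units.val_one]; linear_combination h)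
    rw [this]

omit [Fintype K] in
include hq in
theorem hT_neg_one_sq : hT (K := K) m hq (-1) * hT m hq (-1) = 1 := by
  rw [← hT_mul, neg_mul_neg, one_mul, hT_one]

omit [Fintype K] in
include hq in
theorem hT_neg_one_ne : hT (K := K) m hq (-1) ≠ 1 := by
  intro h
  rw [← hT_one m hq] at h
  have h1 : (-1 : Kˣ) = 1 := hT_injective m hq h
  have h2 := congrArg (fun u : Kˣ => (u : K)) h1
  simp only [Units.val_neg, Units.val_one] at h2
  have h3 : (3 : K) = 0 := three_zero'
  have : (1 : K) = 0 := by linear_combination h2 + h3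
  exact one_ne_zero this

include hq in
theorem fix_hT_neg_one (β : MulAut ↥(twistedG2 K (3 ^ m))) (hU : Pres β (UU m))
    (hV : Pres β (VV m)) : β (hT m hq (-1)) = hT m hq (-1) := by
  apply eq_hT_neg_one m hq _ ((pres_H0 m hq β hU hV).mem (hT_mem m hq _))
  · rw [← map_mul, hT_neg_one_sq, map_one]
  · intro h
    rw [← map_one β] at h
    exact hT_neg_one_ne m hq (β.injective h)

end Cfsg.Agent.Lib.Helper5.ReeOut
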