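import Mathlib
import Cfsg.Prelude.Def_ChevStructure
import Cfsg.Prelude.Def_LieTwisted
import Cfsg.Agent.Lib.Helper5.ReeOut.Normalize
import Cfsg.Agent.Lib.Helper5.ReeCent.Ker

set_option autoImplicit false

/-!
Normalising an automorphism of the Ree group `²G₂(q)`, second part: the root subgroups of the
subgroup `PSL₂(q)` and the element `n₀`.
-/

namespace Cfsg.Agent.Lib.Helper5.ReeOut

open Cfsg Cfsg.Lie Cfsg.Agent.Lib.Helper5.ChevSym Cfsg.Agent.Lib.Helper5.ChevSymP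
  Cfsg.Agent.Lib.Helper5.ChevStruct Cfsg.Agent.Lib.Helper5.Ree Cfsg.Agent.Lib.Helper5.PSL2Solv
  Cfsg.Agent.Lib.Helper5.ReeCent Cfsg.Agent.Lib.Helper5.ReeTori

variable {K : Type*} [Field K] [CharP K 3] (m : ℕ) [Fintype K]
  (hq : ∀ x : K, x ^ 3 ^ (2 * m + 1) = x)

/-- the root elements of the subgroup `PSL₂(q)` -/
noncomputable def xT (u : K) : ↥(twistedG2 K (3 ^ m)) := ⟨xE m u, xE_mem m u⟩

/-- the opposite root elements of the subgroup `PSL₂(q)` -/
noncomputable def yT (u : K) : ↥(twistedG2 K (3 ^ m)) := ⟨yE m u, yE_mem m u⟩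

omit [Fintype K] in
theorem xT_eq_aU (u : K) : xT m u = aU m 0 u 0 := Subtype.ext (xE_eq_al m u)

omit [Fintype K] in
theorem nW_eq : nW (K := K) m = xT m 1 * yT m (-1) * xT m 1 :=
  Subtype.ext (nE_eq_n0 m).symm

omit [Fintype K] in
theorem nW_conj_xT (u : K) : nW m * xT m u * (nW m)⁻¹ = yT m (-u) := by
  apply Subtype.ext
  show n0 K * xE m u * (n0 K)⁻¹ = yE m (-u)
  rw [← nE_eq_n0 m]
  exact nE_conj_xE m u

include hq in
theorem comm_a_nW : hT m hq (-1) * nW m = nW m * hT m hq (-1) := by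
  apply Subtype.ext
  show hz m (-1) * n0 K = n0 K * hz m (-1)
  rw [← nE_eq_n0 m]
  exact (hzm1_comm_nE m hq).eq

include hq in
theorem mem_UU_cent_iff (x : ↥(twistedG2 K (3 ^ m))) :
    x ∈ UU m ⊓ Subgroup.centralizer {hT m hq (-1)} ↔ ∃ u : K, x = xT m u := by
  rw [Subgroup.mem_inf, Subgroup.mem_centralizer_singleton_iff]
  constructor
  · rintro ⟨hx, hc⟩
    have h1 : Commute (hz m (-1)) (x : GL chevG2.Idx K) := by
      show hz m (-1) * (x : GL chevG2.Idx K) = (x : GL chevG2.Idx K) * hz m (-1)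
      exact (congrArg Subtype.val hc).symm
    obtain ⟨u, hu⟩ := cent_pos m hq (x : GL chevG2.Idx K)
      (Subgroup.mem_inf.2 ⟨(mem_UU m x).1 hx, coe_mem_fixG m hq x⟩) h1
    exact ⟨u, Subtype.ext hu⟩
  · rintro ⟨u, rfl⟩
    refine ⟨by rw [xT_eq_aU]; exact aU_mem m _ _ _, ?_⟩
    apply Subtype.ext
    show xE m u * hz m (-1) = hz m (-1) * xE m u
    exact (hzm1_comm_xE m hq u).eq.symm

include hq in
theorem mem_VV_cent_iff (x : ↥(twistedG2 K (3 ^ m))) :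
    x ∈ VV m ⊓ Subgroup.centralizer {hT m hq (-1)} ↔ ∃ u : K, x = yT m u := by
  constructor
  · intro hx
    obtain ⟨hxV, hxc⟩ := Subgroup.mem_inf.1 hx
    rw [mem_VV] at hxV
    rw [Subgroup.mem_centralizer_singleton_iff] at hxc
    have h1 : (nW m)⁻¹ * x * nW m ∈ UU m ⊓ Subgroup.centralizer {hT m hq (-1)} := by
      refine Subgroup.mem_inf.2 ⟨hxV, ?_⟩
      rw [Subgroup.mem_centralizer_singleton_iff]
      have e1 := comm_a_nW m hq
      have e2 : hT m hq (-1) * (nW m)⁻¹ = (nW m)⁻¹ * hT m hq (-1) := by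
        calc hT m hq (-1) * (nW m)⁻¹ = (nW m)⁻¹ * (nW m * hT m hq (-1)) * (nW m)⁻¹ := by group
          _ = (nW m)⁻¹ * (hT m hq (-1) * nW m) * (nW m)⁻¹ := by rw [e1]
          _ = (nW m)⁻¹ * hT m hq (-1) := by group
      calc (nW m)⁻¹ * x * nW m * hT m hq (-1)
          = (nW m)⁻¹ * x * (nW m * hT m hq (-1)) := by group
        _ = (nW m)⁻¹ * x * (hT m hq (-1) * nW m) := by rw [e1]
        _ = (nW m)⁻¹ * (x * hT m hq (-1)) * nW m := by group
        _ = (nW m)⁻¹ * (hT m hq (-1) * x) * nW m := by rw [hxc]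
        _ = ((nW m)⁻¹ * hT m hq (-1)) * x * nW m := by group
        _ = (hT m hq (-1) * (nW m)⁻¹) * x * nW m := by rw [e2]
        _ = hT m hq (-1) * ((nW m)⁻¹ * x * nW m) := by group
    obtain ⟨u, hu⟩ := (mem_UU_cent_iff m hq _).1 h1
    refine ⟨-u, ?_⟩
    rw [← nW_conj_xT, ← hu]
    group
  · rintro ⟨u, rfl⟩
    refine Subgroup.mem_inf.2 ⟨?_, ?_⟩
    · rw [mem_VV]
      have : yT m u = nW m * xT m (-u) * (nW m)⁻¹ := by rw [nW_conj_xT, neg_neg]
      rw [this]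
      have e : (nW m)⁻¹ * (nW m * xT m (-u) * (nW m)⁻¹) * nW m = xT m (-u) := by group
      rw [e, xT_eq_aU]
      exact aU_mem m _ _ _
    · rw [Subgroup.mem_centralizer_singleton_iff]
      apply Subtype.ext
      show yE m u * hz m (-1) = hz m (-1) * yE m u
      exact (hzm1_comm_yE m hq u).eq.symm

include hq in
theorem map_xT (β : MulAut ↥(twistedG2 K (3 ^ m))) (hU : Pres β (UU m)) (hV : Pres β (VV m))
    (u : K) : ∃ u' : K, β (xT m u) = xT m u' := by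
  have ha := fix_hT_neg_one m hq β hU hV
  have h1 : Pres β (UU m ⊓ Subgroup.centralizer {hT m hq (-1)}) :=
    hU.inf (Pres.centralizer ha)
  exact (mem_UU_cent_iff m hq _).1 (h1.mem ((mem_UU_cent_iff m hq _).2 ⟨u, rfl⟩))

include hq in
theorem map_yT (β : MulAut ↥(twistedG2 K (3 ^ m))) (hU : Pres β (UU m)) (hV : Pres β (VV m))
    (u : K) : ∃ u' : K, β (yT m u) = yT m u' := by
  have ha := fix_hT_neg_one m hq β hU hV
  have h1 : Pres β (VV m ⊓ Subgroup.centralizer {hT m hq (-1)}) :=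
    hV.inf (Pres.centralizer ha)
  exact (mem_VV_cent_iff m hq _).1 (h1.mem ((mem_VV_cent_iff m hq _).2 ⟨u, rfl⟩))

section hom

variable (Φ : Matrix.SpecialLinearGroup (Fin 2) K →* ↥(twistedG2 K (3 ^ m)))
  (hu : ∀ t : K, ((Φ (uS t) : ↥(twistedG2 K (3 ^ m))) : GL chevG2.Idx K) = xE m t)
  (hl : ∀ t : K, ((Φ (lS t) : ↥(twistedG2 K (3 ^ m))) : GL chevG2.Idx K) = yE m t)

omit [Fintype K] in
include hu in
theorem hom_uS (t : K) : Φ (uS t) = xT m t := Subtype.ext (hu t)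

omit [Fintype K] in
include hl in
theorem hom_lS (t : K) : Φ (lS t) = yT m t := Subtype.ext (hl t)

include hq hu hl in
theorem hom_dS_mem (r : K) (hr : r ≠ 0) : Φ (dS r hr) ∈ H0 m := by
  rw [mem_H0_iff m hq]
  exact ⟨tauU m (Units.mk0 r hr), Subtype.ext (hom_dS m hq Φ hu hl r hr)⟩

include hq hu hl in
theorem hom_wS_pm (ε : K) (hε0 : ε ≠ 0) (hε : ε = 1 ∨ ε = -1) : Φ (wS ε hε0) = nW m := by
  have h1 : wS ε hε0 = dS ε hε0 * wS 1 one_ne_zero := by
    rw [dS_eq, inv_mul_cancel_right]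
  have h2 : Φ (dS ε hε0) = 1 := by
    apply Subtype.ext
    rw [hom_dS m hq Φ hu hl, tauU_of_sq_eq_one m ε hε0 hε, map_one]
    rfl
  have h3 : Φ (wS 1 one_ne_zero) = nW m := by
    apply Subtype.ext
    rw [hom_wS m Φ hu hl, wE_one, nE_eq_n0]
    rfl
  rw [h1, map_mul, h2, one_mul, h3]

omit [CharP K 3] [Fintype K] in
theorem dS_conj_wS (r p : K) (hr : r ≠ 0) (hp : p ≠ 0) :
    dS r hr * (wS 1 one_ne_zero * dS p hp) * (dS r hr)⁻¹ =
      wS (r ^ 2 / p) (div_ne_zero (pow_ne_zero 2 hr) hp) := by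
  unfold wS dS
  rw [mk2_inv, mk2_mul, mk2_mul, mk2_mul]
  refine mk2_inj.2 ⟨?_, ?_, ?_, ?_⟩
  · ring
  · field_simp
    ring
  · field_simp
    ring
  · ring

include hq hu hl in
/-- after a conjugation by an element of `H¹`, the element `n₀` is fixed -/
theorem exists_fix_nW (h4 : Fintype.card K % 4 = 3) (β : MulAut ↥(twistedG2 K (3 ^ m)))
    (hU : Pres β (UU m)) (hV : Pres β (VV m)) (hn : (nW m)⁻¹ * β (nW m) ∈ H0 m) :
    ∃ h ∈ H0 m, h * β (nW m) * h⁻¹ = nW m := by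
  obtain ⟨u₁, e₁⟩ := map_xT m hq β hU hV 1
  obtain ⟨u₂, e₂⟩ := map_yT m hq β hU hV (-1)
  have hβn : β (nW m) = Φ (uS u₁ * lS u₂ * uS u₁) := by
    rw [nW_eq, map_mul, map_mul, e₁, e₂, map_mul, map_mul, hom_uS m Φ hu, hom_lS m Φ hl]
  have hn0 : nW m = Φ (wS 1 one_ne_zero) := (hom_wS_pm m hq Φ hu hl 1 one_ne_zero (Or.inl rfl)).symm
  obtain ⟨z, hzz⟩ := (mem_H0_iff m hq _).1 hn
  have h1 : ((Φ ((wS 1 one_ne_zero)⁻¹ * (uS u₁ * lS u₂ * uS u₁)) : ↥(twistedG2 K (3 ^ m))) :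
      GL chevG2.Idx K) = hz m z := by
    rw [map_mul, map_inv, ← hn0, ← hβn, hzz]
    rfl
  obtain ⟨p, hp, hg, -⟩ := hom_eq_hz m hq Φ hu hl _ z h1
  have hg1 : uS u₁ * lS u₂ * uS u₁ = wS 1 one_ne_zero * dS p hp := by
    rw [← hg]
    group
  obtain ⟨r, hr⟩ := exists_sq_eq_or_neg h4 p hp
  have hr0 : r ≠ 0 := by
    rintro rfl
    rcases hr with h | h
    · apply hp
      rw [← h]
      ring
    · apply hp
      have : -p = 0 := by rw [← h]; ring
      exact neg_eq_zero.1 this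
  refine ⟨Φ (dS r hr0), hom_dS_mem m hq Φ hu hl r hr0, ?_⟩
  rw [hβn, hg1, ← map_inv, ← map_mul, ← map_mul, dS_conj_wS]
  apply hom_wS_pm m hq Φ hu hl
  rcases hr with h | h
  · left
    rw [h]
    exact div_self hp
  · right
    rw [h, neg_div, div_self hp]

end hom

variable (hK : Fintype.card K = 3 ^ (2 * m + 1))

include hK in
/-- every automorphism is, up to an inner automorphism, normalised: it preserves `U¹` and `V¹`
and fixes `n₀` -/
theorem exists_normalized (α : MulAut ↥(twistedG2 K (3 ^ m))) :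
    ∃ (g : ↥(twistedG2 K (3 ^ m))) (β : MulAut ↥(twistedG2 K (3 ^ m))),
      β = MulAut.conj g * α ∧ Pres β (UU m) ∧ Pres β (VV m) ∧ β (nW m) = nW m := by
  have hq := pow_card_eq hK
  obtain ⟨Φ, hu, hl⟩ := exists_hom m hq
  obtain ⟨g₀, β₀, hβ₀, hU, hV, hn⟩ := exists_normalized_abs (UU m) (BB m) (H0 m) (nW m)
    (exists_pres_UU m hK) (mem_BB_of_conj m hq) (fun b hb x => BB_normalizes m b hb x)
    (bruhat m hq) (mem_H0_of_conj m hq) (H0_le_BB m) (nW_sq_mem m hq) (nW_not_mem m)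
    ⟨aU m 1 0 0, aU_mem m 1 0 0, aU_ne_one m⟩ α
  have h4 : Fintype.card K % 4 = 3 := by
    have := card_mod_eight m hK
    omega
  obtain ⟨h, hh, hfix⟩ := exists_fix_nW m hq Φ hu hl h4 β₀ hU hV hn
  refine ⟨h * g₀, MulAut.conj h * β₀, ?_, ?_, ?_, ?_⟩
  · rw [hβ₀, map_mul, mul_assoc]
  · exact (pres_conj_of_normalizes _ h (BB_normalizes m h (H0_le_BB m hh))).mul hU
  · have hN : h ∈ Subgroup.normalizer ((VV (K := K) m : Subgroup ↥(twistedG2 K (3 ^ m))) :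
        Set ↥(twistedG2 K (3 ^ m))) := by
      have := hh
      rw [H0_eq_inf m hq] at this
      exact (Subgroup.mem_inf.1 this).2
    exact (pres_conj_of_normalizes _ h (Subgroup.mem_normalizer_iff.1 hN)).mul hV
  · rw [MulAut.mul_apply, MulAut.conj_apply]
    exact hfix

end Cfsg.Agent.Lib.Helper5.ReeOut
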