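import Mathlib
import Cfsg.Prelude.Def_ChevStructure
import Cfsg.Prelude.Def_LieTwisted
import Cfsg.Agent.Lib.Helper5.ReeOut.Normalize2
import Cfsg.Agent.Lib.Helper5.ChevFieldMap

set_option autoImplicit false

/-!
The field automorphisms of the Ree group `²G₂(q)`.
-/

namespace Cfsg.Agent.Lib.Helper5.ReeOut

open Cfsg Cfsg.Lie Cfsg.Agent.Lib.Helper5.ChevSym Cfsg.Agent.Lib.Helper5.ChevSymP
  Cfsg.Agent.Lib.Helper5.ChevStruct Cfsg.Agent.Lib.Helper5.Ree Cfsg.Agent.Lib.Helper5.PSL2Solv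
  Cfsg.Agent.Lib.Helper5.ReeCent Cfsg.Agent.Lib.Helper5.ReeTori

section general

variable {K : Type*} [Field K]

theorem glMap_wordGL (f : K →+* K) (w : List (ℕ × K)) :
    Matrix.GeneralLinearGroup.map f (wordGL chevG2 hG2 w) =
      wordGL chevG2 hG2 (w.map fun p => (p.1, f p.2)) := by
  apply Units.ext
  rw [wordGL_val, ← wordMat_map, ← wordGL_val chevG2 hG2 w]
  rfl

theorem map_reeWordU (f : K →+* K) (e : ℕ) (t u v : K) :
    (reeWordU e t u v).map (fun p => (p.1, f p.2)) = reeWordU e (f t) (f u) (f v) := by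
  simp [reeWordU, map_pow, map_add]

theorem map_reeWordV (f : K →+* K) (e : ℕ) (t u v : K) :
    (reeWordV e t u v).map (fun p => (p.1, f p.2)) = reeWordV e (f t) (f u) (f v) := by
  unfold reeWordV ChevalleyDatum.negWord
  rw [← map_reeWordU f e t u v, List.map_map, List.map_map]
  apply List.map_congr_left
  intro p _
  simp [Function.comp, map_neg]

theorem glMap_mem_twisted (f : K →+* K) (e : ℕ) :
    (twistedG2 K e).map (Matrix.GeneralLinearGroup.map f) ≤ twistedG2 K e := by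
  unfold twistedG2 ChevalleyDatum.genSubgroup
  rw [MonoidHom.map_closure, Subgroup.closure_le]
  rintro _ ⟨g, ⟨w, ⟨t, u, v, hw⟩, hg⟩, rfl⟩
  apply Subgroup.subset_closure
  refine ⟨w.map fun p => (p.1, f p.2), ⟨f t, f u, f v, ?_⟩, ?_⟩
  · rcases hw with hw | hw
    · left
      rw [hw, map_reeWordU]
    · right
      rw [hw, map_reeWordV]
  · rw [← wordMat_map, ← hg]
    rfl

/-- the action of a field endomorphism on the Ree group -/
noncomputable def fieldHomR (f : K →+* K) (e : ℕ) : ↥(twistedG2 K e) →* ↥(twistedG2 K e) :=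
  ((Matrix.GeneralLinearGroup.map f).comp (twistedG2 K e).subtype).codRestrict (twistedG2 K e)
    (fun g => glMap_mem_twisted f e ⟨g.1, g.2, rfl⟩)

theorem fieldHomR_coe (f : K →+* K) (e : ℕ) (g : ↥(twistedG2 K e)) :
    ((fieldHomR f e g : ↥(twistedG2 K e)) : GL chevG2.Idx K) =
      Matrix.GeneralLinearGroup.map f (g : GL chevG2.Idx K) := rfl

theorem fieldHomR_comp (f g : K →+* K) (e : ℕ) (x : ↥(twistedG2 K e)) :
    fieldHomR f e (fieldHomR g e x) = fieldHomR (f.comp g) e x := by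
  apply Subtype.ext
  apply Units.ext
  rw [fieldHomR_coe, fieldHomR_coe, fieldHomR_coe]
  ext i j
  rfl

theorem fieldHomR_id (e : ℕ) (x : ↥(twistedG2 K e)) : fieldHomR (RingHom.id K) e x = x := by
  apply Subtype.ext
  apply Units.ext
  rw [fieldHomR_coe]
  ext i j
  rfl

/-- the field automorphisms of the Ree group -/
noncomputable def fieldAutR (σ : K ≃+* K) (e : ℕ) : MulAut ↥(twistedG2 K e) :=
  MonoidHom.toMulEquiv (fieldHomR (σ : K →+* K) e) (fieldHomR (σ.symm : K →+* K) e)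
    (by
      apply MonoidHom.ext
      intro x
      rw [MonoidHom.comp_apply, fieldHomR_comp]
      have : (σ.symm : K →+* K).comp (σ : K →+* K) = RingHom.id K := by
        ext y
        exact σ.symm_apply_apply y
      rw [this, fieldHomR_id]
      rfl)
    (by
      apply MonoidHom.ext
      intro x
      rw [MonoidHom.comp_apply, fieldHomR_comp]
      have : (σ : K →+* K).comp (σ.symm : K →+* K) = RingHom.id K := by
        ext y
        exact σ.apply_symm_apply y
      rw [this, fieldHomR_id]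
      rfl)

theorem fieldAutR_apply (σ : K ≃+* K) (e : ℕ) (x : ↥(twistedG2 K e)) :
    fieldAutR σ e x = fieldHomR (σ : K →+* K) e x := rfl

theorem fieldAutR_inv_apply (σ : K ≃+* K) (e : ℕ) (x : ↥(twistedG2 K e)) :
    (fieldAutR σ e)⁻¹ x = fieldHomR (σ.symm : K →+* K) e x := rfl

end general

section ree

variable {K : Type*} [Field K] [CharP K 3] (m : ℕ) [Fintype K]
  (hq : ∀ x : K, x ^ 3 ^ (2 * m + 1) = x)

/-- the generators of `V¹` -/
noncomputable def bV (t u v : K) : ↥(twistedG2 K (3 ^ m)) :=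
  ⟨wordGL chevG2 hG2 (reeWordV (3 ^ m) t u v), reeV_mem_twisted m t u v⟩

omit [CharP K 3] [Fintype K] in
theorem fieldAutR_aU (σ : K ≃+* K) (t u v : K) :
    fieldAutR σ (3 ^ m) (aU m t u v) = aU m (σ t) (σ u) (σ v) := by
  apply Subtype.ext
  show Matrix.GeneralLinearGroup.map (σ : K →+* K) (wordGL chevG2 hG2 (reeWordU (3 ^ m) t u v)) =
    wordGL chevG2 hG2 (reeWordU (3 ^ m) (σ t) (σ u) (σ v))
  rw [glMap_wordGL, map_reeWordU]
  rfl

omit [CharP K 3] [Fintype K] in
theorem fieldAutR_bV (σ : K ≃+* K) (t u v : K) :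
    fieldAutR σ (3 ^ m) (bV m t u v) = bV m (σ t) (σ u) (σ v) := by
  apply Subtype.ext
  show Matrix.GeneralLinearGroup.map (σ : K →+* K) (wordGL chevG2 hG2 (reeWordV (3 ^ m) t u v)) =
    wordGL chevG2 hG2 (reeWordV (3 ^ m) (σ t) (σ u) (σ v))
  rw [glMap_wordGL, map_reeWordV]
  rfl

omit [Fintype K] in
theorem yT_eq_bV (u : K) : yT m u = bV m 0 (-u) 0 := Subtype.ext (yE_eq_reeV m u)

omit [Fintype K] in
theorem fieldAutR_xT (σ : K ≃+* K) (u : K) : fieldAutR σ (3 ^ m) (xT m u) = xT m (σ u) := by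
  rw [xT_eq_aU, fieldAutR_aU, map_zero, xT_eq_aU]

omit [Fintype K] in
theorem fieldAutR_yT (σ : K ≃+* K) (u : K) : fieldAutR σ (3 ^ m) (yT m u) = yT m (σ u) := by
  rw [yT_eq_bV, fieldAutR_bV, map_zero, map_neg, yT_eq_bV]

omit [Fintype K] in
theorem fieldAutR_nW (σ : K ≃+* K) : fieldAutR σ (3 ^ m) (nW m) = nW m := by
  rw [nW_eq, map_mul, map_mul, fieldAutR_xT, fieldAutR_yT, map_one, map_neg, map_one]

include hq in
theorem fieldAutR_mem_UU (σ : K ≃+* K) (x : ↥(twistedG2 K (3 ^ m))) (hx : x ∈ UU m) :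
    fieldAutR σ (3 ^ m) x ∈ UU m := by
  obtain ⟨t, u, v, rfl⟩ := (mem_UU_iff m hq x).1 hx
  rw [fieldAutR_aU]
  exact aU_mem m _ _ _

omit [CharP K 3] [Fintype K] in
theorem fieldAutR_symm_apply (σ : K ≃+* K) (e : ℕ) (x : ↥(twistedG2 K e)) :
    fieldAutR σ.symm e (fieldAutR σ e x) = x := by
  rw [fieldAutR_apply, fieldAutR_apply, fieldHomR_comp]
  have : ((σ.symm : K ≃+* K) : K →+* K).comp (σ : K →+* K) = RingHom.id K := by
    ext y
    exact σ.symm_apply_apply y
  rw [this, fieldHomR_id]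

include hq in
theorem pres_fieldAutR_UU (σ : K ≃+* K) : Pres (fieldAutR σ (3 ^ m)) (UU (K := K) m) := by
  intro x
  constructor
  · intro h
    have := fieldAutR_mem_UU m hq σ.symm _ h
    rw [fieldAutR_symm_apply] at this
    exact this
  · exact fieldAutR_mem_UU m hq σ x

include hq in
theorem pres_fieldAutR_VV (σ : K ≃+* K) : Pres (fieldAutR σ (3 ^ m)) (VV (K := K) m) := by
  intro x
  rw [mem_VV, mem_VV, ← pres_fieldAutR_UU m hq σ ((nW m)⁻¹ * x * nW m), map_mul, map_mul,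
    map_inv, fieldAutR_nW]

end ree

end Cfsg.Agent.Lib.Helper5.ReeOut
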