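import Mathlib
import Cfsg.Prelude.Def_ChevStructure
import Cfsg.Prelude.Def_LieTwisted
import Cfsg.Agent.Lib.Helper5.ReeOut.FieldAut
import Cfsg.Agent.Lib.Helper5.ReeOut.RigidAlg

set_option autoImplicit false

/-!
Rigidity of the normalised automorphisms of the Ree group `²G₂(q)`: a normalised automorphism is
a field automorphism, possibly followed by the conjugation by the involution of the torus.
-/

namespace Cfsg.Agent.Lib.Helper5.ReeOut

open Cfsg Cfsg.Lie Cfsg.Agent.Lib.Helper5.ChevSym Cfsg.Agent.Lib.Helper5.ChevSymP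
  Cfsg.Agent.Lib.Helper5.ChevStruct Cfsg.Agent.Lib.Helper5.Ree Cfsg.Agent.Lib.Helper5.PSL2Solv
  Cfsg.Agent.Lib.Helper5.ReeCent Cfsg.Agent.Lib.Helper5.ReeTori

variable {K : Type*} [Field K] [CharP K 3] (m : ℕ) [Fintype K]
  (hq : ∀ x : K, x ^ 3 ^ (2 * m + 1) = x)

omit [CharP K 3] [Fintype K] in
theorem aU_congr {t u v t' u' v' : K} (h1 : t = t') (h2 : u = u') (h3 : v = v') :
    aU m t u v = aU m t' u' v' := by
  subst h1 h2 h3
  rfl

include hq in
theorem aU_mul_ps (t u v t' u' v' : K) :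
    aU m t u v * aU m t' u' v' = aU m (t + t') (u + u' - t * ps m t')
      (v + v' - u * t' + t * ps m t' * t' - t ^ 2 * ps m t') := by
  rw [aU_mul m hq, ps_eq]

include hq in
theorem aU_split (T U W : K) : aU m T U W = aU m T 0 0 * aU m 0 U 0 * aU m 0 0 W := by
  rw [aU_mul_ps m hq, aU_mul_ps m hq]
  apply aU_congr <;> simp

include hq in
theorem aU_zero : aU (K := K) m 0 0 0 = 1 := by
  have h := aU_mul_ps m hq (0 : K) 0 0 0 0 0
  have e : aU (K := K) m (0 + 0) (0 + 0 - 0 * ps m 0)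
      (0 + 0 - 0 * 0 + 0 * ps m 0 * 0 - 0 ^ 2 * ps m 0) = aU m 0 0 0 := by
    apply aU_congr <;> simp
  rw [e] at h
  exact mul_eq_left.1 h

include hq in
/-- the torus elements, parametrised by their action on the first coordinate -/
theorem hT_conj_aU' (s : Kˣ) (t u v : K) :
    hT m hq (s ^ (2 + 3 ^ (m + 1))) * aU m t u v * (hT m hq (s ^ (2 + 3 ^ (m + 1))))⁻¹ =
      aU m ((s : K) * t) ((s : K) * ps m (s : K) * u) ((s : K) ^ 2 * ps m (s : K) * v) := by
  rw [hT_conj_aU m hq, chi6_pow m hq, chi10_eq]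
  have hs0 : (s : K) ≠ 0 := s.ne_zero
  have hp0 : ps m (s : K) ≠ 0 := by
    rw [ps_apply]
    exact pow_ne_zero _ hs0
  have e1 : ((s ^ (2 + 3 ^ (m + 1)) : Kˣ) : K) = (s : K) ^ 2 * ps m (s : K) := by
    rw [Units.val_pow_eq_pow_val, pow_add, ps_apply]
  apply aU_congr
  · rfl
  · rw [e1, map_mul, map_pow, ps_ps m hq]
    field_simp
  · rw [e1]

include hq in
theorem c6_injective (z z' : Kˣ)
    (h : chi chevG2 (hzF m z) 6 = chi chevG2 (hzF m z') 6) : z = z' := by
  have hinj : Function.Injective (fun s : Kˣ => s ^ (2 + 3 ^ (m + 1))) := by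
    intro s s' hss
    have e1 := chi6_pow m hq s
    have e2 := chi6_pow m hq s'
    simp only at hss
    rw [hss, e2] at e1
    exact Units.ext e1.symm
  have hsurj := Finite.injective_iff_surjective.1 hinj
  obtain ⟨s, rfl⟩ := hsurj z
  obtain ⟨s', rfl⟩ := hsurj z'
  simp only at h
  rw [chi6_pow m hq, chi6_pow m hq] at h
  rw [Units.ext h]

include hq in
/-- the characters of the torus: every `s ≠ 0` is a value of the first one -/
theorem exists_torus_s (s : K) (hs : s ≠ 0) :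
    ∃ z : Kˣ, ∀ t u v : K, hT m hq z * aU m t u v * (hT m hq z)⁻¹ =
      aU m (s * t) (s * ps m s * u) (s ^ 2 * ps m s * v) := by
  refine ⟨(Units.mk0 s hs) ^ (2 + 3 ^ (m + 1)), fun t u v => ?_⟩
  have := hT_conj_aU' m hq (Units.mk0 s hs) t u v
  rwa [Units.val_mk0] at this

include hq in
/-- the characters of the torus: every square is a value of the second one -/
theorem exists_torus_sq (r : K) (hr : r ≠ 0) :
    ∃ (z : Kˣ) (a : K), ∀ t u v : K, hT m hq z * aU m t u v * (hT m hq z)⁻¹ =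
      aU m (a * t) (r ^ 2 * u) ((z : K) * v) := by
  refine ⟨(Units.mk0 r hr) ^ (3 ^ (m + 1) + 1),
    chi chevG2 (hzF m ((Units.mk0 r hr) ^ (3 ^ (m + 1) + 1))) 6, fun t u v => ?_⟩
  rw [hT_conj_aU m hq, chi10_pow m hq, Units.val_mk0]

section lin

variable (β : MulAut ↥(twistedG2 K (3 ^ m))) (hU : Pres β (UU m)) (hV : Pres β (VV m))
  (c₁ : K) (hc₁ : c₁ ≠ 0) (hlin : ∀ t : K, ∃ u v : K, β (aU m t 0 0) = aU m (c₁ * t) u v)

include hU hV hc₁ hlin in
/-- a normalised automorphism which is linear on the first coordinate fixes the torus -/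
theorem fix_H0 (z : Kˣ) : β (hT m hq z) = hT m hq z := by
  have h1 : β (hT m hq z) ∈ H0 m := (pres_H0 m hq β hU hV).mem (hT_mem m hq z)
  obtain ⟨z', hz'⟩ := (mem_H0_iff m hq _).1 h1
  obtain ⟨u, v, huv⟩ := hlin 1
  have e := hT_conj_aU m hq z 1 0 0
  rw [mul_zero, mul_zero] at e
  obtain ⟨u', v', huv'⟩ := hlin (chi chevG2 (hzF m z) 6 * 1)
  have e2 := congrArg β e
  rw [map_mul, map_mul, map_inv, hz', huv, huv', hT_conj_aU m hq] at e2
  have e3 := (aU_injective m _ _ _ _ _ _ e2).1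
  have e4 : chi chevG2 (hzF m z') 6 = chi chevG2 (hzF m z) 6 := by
    apply mul_right_cancel₀ hc₁
    linear_combination e3
  rw [hz', c6_injective m hq _ _ e4]

include hq hU hV hlin in
theorem exists_coords :
    ∃ φ ψ f f₃ : K → K, (∀ T, β (aU m T 0 0) = aU m (c₁ * T) (φ T) (ψ T)) ∧
      (∀ U, β (aU m 0 U 0) = aU m 0 (f U) 0) ∧ (∀ W, β (aU m 0 0 W) = aU m 0 0 (f₃ W)) ∧
      ∀ T U W, β (aU m T U W) = aU m (c₁ * T) (φ T + f U) (ψ T + f₃ W) := by
  choose φ ψ hφψ using hlin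
  have hf : ∀ U : K, ∃ U' : K, β (aU m 0 U 0) = aU m 0 U' 0 := by
    intro U
    obtain ⟨U', h⟩ := map_xT m hq β hU hV U
    rw [xT_eq_aU, xT_eq_aU] at h
    exact ⟨U', h⟩
  choose f hf using hf
  have hf₃ : ∀ W : K, ∃ W' : K, β (aU m 0 0 W) = aU m 0 0 W' := by
    intro W
    have hcen : ∀ x ∈ UU m, aU m 0 0 W * x = x * aU m 0 0 W := by
      intro x hx
      obtain ⟨t, u, v, rfl⟩ := (mem_UU_iff m hq x).1 hx
      rw [aU_mul_ps m hq, aU_mul_ps m hq]
      apply aU_congr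
      · ring
      · simp
      · simp only [map_zero]
        ring
    have hcen' : ∀ y ∈ UU m, β (aU m 0 0 W) * y = y * β (aU m 0 0 W) := by
      intro y hy
      have hy' : β.symm y ∈ UU m := by
        rw [← hU, MulEquiv.apply_symm_apply]
        exact hy
      have := congrArg β (hcen _ hy')
      rwa [map_mul, map_mul, MulEquiv.apply_symm_apply] at this
    obtain ⟨a, b, c, habc⟩ := (mem_UU_iff m hq _).1 (hU.mem (aU_mem m 0 0 W))
    rw [habc] at hcen'
    have k1 := hcen' (aU m 0 1 0) (aU_mem m 0 1 0)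
    rw [aU_mul_ps m hq, aU_mul_ps m hq] at k1
    have k1' := (aU_injective m _ _ _ _ _ _ k1).2.2
    simp only [map_zero] at k1'
    have ha : a = 0 := by linear_combination k1'
    subst ha
    have k2 := hcen' (aU m 1 0 0) (aU_mem m 1 0 0)
    rw [aU_mul_ps m hq, aU_mul_ps m hq] at k2
    have k2' := (aU_injective m _ _ _ _ _ _ k2).2.2
    simp only [map_zero, map_one] at k2'
    have hb : b = 0 := by linear_combination -k2'
    subst hb
    exact ⟨c, habc⟩
  choose f₃ hf₃ using hf₃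
  refine ⟨φ, ψ, f, f₃, hφψ, hf, hf₃, ?_⟩
  intro T U W
  rw [aU_split m hq T U W, map_mul, map_mul, hφψ, hf, hf₃, aU_mul_ps m hq, aU_mul_ps m hq]
  apply aU_congr
  · ring
  · simp
  · simp only [map_zero]
    ring

end lin

section coords

variable (β : MulAut ↥(twistedG2 K (3 ^ m))) (hH : ∀ z : Kˣ, β (hT m hq z) = hT m hq z)
  (c₁ : K) (φ ψ f f₃ : K → K)
  (h1 : ∀ T, β (aU m T 0 0) = aU m (c₁ * T) (φ T) (ψ T))
  (h2 : ∀ U, β (aU m 0 U 0) = aU m 0 (f U) 0)
  (h3 : ∀ W, β (aU m 0 0 W) = aU m 0 0 (f₃ W))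
  (hG : ∀ T U W, β (aU m T U W) = aU m (c₁ * T) (φ T + f U) (ψ T + f₃ W))

include hq h2 in
theorem coords_f_add (a b : K) : f (a + b) = f a + f b := by
  have e : aU m 0 a 0 * aU m 0 b 0 = aU m 0 (a + b) 0 := by
    rw [aU_mul_ps m hq]
    apply aU_congr <;> simp
  have e2 := congrArg β e
  rw [map_mul, h2, h2, h2, aU_mul_ps m hq] at e2
  have := (aU_injective m _ _ _ _ _ _ e2).2.1
  linear_combination -this

include hq h3 in
theorem coords_f₃_add (a b : K) : f₃ (a + b) = f₃ a + f₃ b := by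
  have e : aU m 0 0 a * aU m 0 0 b = aU m 0 0 (a + b) := by
    rw [aU_mul_ps m hq]
    apply aU_congr <;> simp
  have e2 := congrArg β e
  rw [map_mul, h3, h3, h3, aU_mul_ps m hq] at e2
  have := (aU_injective m _ _ _ _ _ _ e2).2.2
  simp only [map_zero] at this
  linear_combination -this

include hH h1 h2 h3 in
theorem coords_torus (z : Kˣ) (a b d : K)
    (hzc : ∀ t u v : K, hT m hq z * aU m t u v * (hT m hq z)⁻¹ = aU m (a * t) (b * u) (d * v)) :
    (∀ T, φ (a * T) = b * φ T) ∧ (∀ T, ψ (a * T) = d * ψ T) ∧ (∀ U, f (b * U) = b * f U) ∧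
      ∀ W, f₃ (d * W) = d * f₃ W := by
  have key : ∀ T, φ (a * T) = b * φ T ∧ ψ (a * T) = d * ψ T := by
    intro T
    have e := hzc T 0 0
    rw [mul_zero, mul_zero] at e
    have e2 := congrArg β e
    rw [map_mul, map_mul, map_inv, hH, h1, h1, hzc] at e2
    obtain ⟨-, e3, e4⟩ := aU_injective m _ _ _ _ _ _ e2
    exact ⟨e3.symm, e4.symm⟩
  refine ⟨fun T => (key T).1, fun T => (key T).2, fun U => ?_, fun W => ?_⟩
  · have e := hzc 0 U 0
    rw [mul_zero, mul_zero] at e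
    have e2 := congrArg β e
    rw [map_mul, map_mul, map_inv, hH, h2, h2, hzc] at e2
    exact ((aU_injective m _ _ _ _ _ _ e2).2.1).symm
  · have e := hzc 0 0 W
    rw [mul_zero, mul_zero] at e
    have e2 := congrArg β e
    rw [map_mul, map_mul, map_inv, hH, h3, h3, hzc] at e2
    exact ((aU_injective m _ _ _ _ _ _ e2).2.2).symm

include hq h1 hG in
theorem coords_E (t t' : K) :
    φ (t + t') + f (-(t * ps m t')) = φ t + φ t' - c₁ * t * ps m (c₁ * t') ∧
    ψ (t + t') + f₃ (t * ps m t' * t' - t ^ 2 * ps m t') =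
      ψ t + ψ t' - φ t * (c₁ * t') + c₁ * t * ps m (c₁ * t') * (c₁ * t') -
        (c₁ * t) ^ 2 * ps m (c₁ * t') := by
  have e : aU m t 0 0 * aU m t' 0 0 =
      aU m (t + t') (-(t * ps m t')) (t * ps m t' * t' - t ^ 2 * ps m t') := by
    rw [aU_mul_ps m hq]
    apply aU_congr <;> ring
  have e2 := congrArg β e
  rw [map_mul, h1, h1, hG, aU_mul_ps m hq] at e2
  obtain ⟨-, e3, e4⟩ := aU_injective m _ _ _ _ _ _ e2
  exact ⟨e3.symm, e4.symm⟩

end coords

section linear

variable (β : MulAut ↥(twistedG2 K (3 ^ m))) (hU : Pres β (UU m)) (hV : Pres β (VV m))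
  (hn : β (nW m) = nW m)
  (c₁ : K) (hc₁ : c₁ ≠ 0) (hlin : ∀ t : K, ∃ u v : K, β (aU m t 0 0) = aU m (c₁ * t) u v)
  (hP : ∃ s : K, ps m s ≠ s) (h4 : Fintype.card K % 4 = 3)

include hq hU hV hc₁ hlin hP h4 in
/-- the automorphism is diagonal on `U¹` -/
theorem linear_diag : ∃ c c₃ : K, c = c₁ * ps m c₁ ∧ c₃ = c₁ ^ 2 * ps m c₁ ∧
    ∀ T U W, β (aU m T U W) = aU m (c₁ * T) (c * U) (c₃ * W) := by
  have hH := fix_H0 m hq β hU hV c₁ hc₁ hlin
  obtain ⟨φ, ψ, f, f₃, h1, h2, h3, hG⟩ := exists_coords m hq β hU hV c₁ hlin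
  have hfadd := coords_f_add m hq β f h2
  have hf₃add := coords_f₃_add m hq β f₃ h3
  have hodd : Fintype.card K % 2 = 1 := by omega
  have hf0 : f 0 = 0 := by
    have := hfadd 0 0
    rw [add_zero] at this
    exact left_eq_add.1 this
  have hf₃0 : f₃ 0 = 0 := by
    have := hf₃add 0 0
    rw [add_zero] at this
    exact left_eq_add.1 this
  have hfsq : ∀ r u : K, f (r ^ 2 * u) = r ^ 2 * f u := by
    intro r u
    by_cases hr : r = 0
    · subst hr
      rw [zero_pow two_ne_zero, zero_mul, zero_mul, hf0]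
    · obtain ⟨z, a, hza⟩ := exists_torus_sq m hq r hr
      exact (coords_torus m hq β hH c₁ φ ψ f f₃ h1 h2 h3 z a (r ^ 2) (z : K) hza).2.2.1 u
  have hflin := linear_of_sq hodd f hfadd hfsq
  have hf₃lin : ∀ W, f₃ W = f₃ 1 * W := by
    intro W
    by_cases hW : W = 0
    · subst hW
      rw [hf₃0, mul_zero]
    · have := (coords_torus m hq β hH c₁ φ ψ f f₃ h1 h2 h3 (Units.mk0 W hW) _ _ _
        (hT_conj_aU m hq (Units.mk0 W hW))).2.2.2 1
      rw [Units.val_mk0, mul_one] at this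
      rw [this]
      ring
  have hφψs : ∀ s : K, s ≠ 0 → (∀ t, φ (s * t) = s * ps m s * φ t) ∧
      (∀ t, ψ (s * t) = s ^ 2 * ps m s * ψ t) := by
    intro s hs
    obtain ⟨z, hzc⟩ := exists_torus_s m hq s hs
    have := coords_torus m hq β hH c₁ φ ψ f f₃ h1 h2 h3 z s (s * ps m s) (s ^ 2 * ps m s) hzc
    exact ⟨this.1, this.2.1⟩
  have h3K : (3 : K) = 0 := three_zero'
  have hE2 : ∀ t t', φ (t + t') + f 1 * (-(t * ps m t')) =
      φ t + φ t' - c₁ * t * ps m (c₁ * t') := by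
    intro t t'
    have := (coords_E m hq β c₁ φ ψ f f₃ h1 hG t t').1
    rw [hflin] at this
    exact this
  have hE3 : ∀ t t', ψ (t + t') + f₃ 1 * (t * ps m t' * t' - t ^ 2 * ps m t') =
      ψ t + ψ t' - φ t * (c₁ * t') + c₁ * t * ps m (c₁ * t') * (c₁ * t') -
        (c₁ * t) ^ 2 * ps m (c₁ * t') := by
    intro t t'
    have := (coords_E m hq β c₁ φ ψ f f₃ h1 hG t t').2
    rw [hf₃lin] at this
    exact this
  have hφneg : ∀ t, φ (-t) = φ t := by
    intro t
    have := (hφψs (-1) (neg_ne_zero.2 one_ne_zero)).1 t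
    rw [map_neg, map_one, neg_one_mul] at this
    rw [this]
    ring
  have hψs : ∀ s : K, s ≠ 0 → ∀ t, ψ (s * t) = s ^ 2 * ps m s * ψ t :=
    fun s hs t => (hφψs s hs).2 t
  obtain ⟨hc, hc3, hφ0, hψ0⟩ := coords_rigid (ps m) hP h3K c₁ (f 1) (f₃ 1) φ ψ hE2 hE3 hφneg hψs
  refine ⟨f 1, f₃ 1, hc, hc3, fun T U W => ?_⟩
  rw [hG, hφ0, hψ0, zero_add, zero_add, hflin U, hf₃lin W]

include hq hn in
/-- the relation `n₀ = x(1) y(-1) x(1)` forces the constant to be a sign -/
theorem linear_c_sq (c : K) (hx : ∀ u, β (xT m u) = xT m (c * u)) : c ^ 2 = 1 := by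
  obtain ⟨Φ, hu, hl⟩ := exists_hom m hq
  have hy : ∀ u, β (yT m u) = yT m (c * u) := by
    intro u
    have e := nW_conj_xT m (-u)
    rw [neg_neg] at e
    rw [← e, map_mul, map_mul, map_inv, hn, hx, nW_conj_xT]
    congr 1
    ring
  have hβn : nW m = Φ (uS (c * 1) * lS (c * -1) * uS (c * 1)) := by
    rw [map_mul, map_mul, hom_uS m Φ hu, hom_lS m Φ hl, ← hx, ← hy, ← map_mul, ← map_mul,
      ← nW_eq, hn]
  have hn0 : nW m = Φ (wS 1 one_ne_zero) :=
    (hom_wS_pm m hq Φ hu hl 1 one_ne_zero (Or.inl rfl)).symm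
  have h1 : ((Φ ((wS 1 one_ne_zero)⁻¹ * (uS (c * 1) * lS (c * -1) * uS (c * 1))) :
      ↥(twistedG2 K (3 ^ m))) : GL chevG2.Idx K) = hz m 1 := by
    rw [map_mul, map_inv, ← hn0, ← hβn, inv_mul_cancel, map_one]
    rfl
  obtain ⟨p, hp, hg, -⟩ := hom_eq_hz m hq Φ hu hl _ 1 h1
  have hg1 : uS (c * 1) * lS (c * -1) * uS (c * 1) = wS 1 one_ne_zero * dS p hp := by
    rw [← hg]
    group
  unfold uS lS wS dS at hg1
  rw [mk2_mul, mk2_mul, mk2_mul] at hg1
  have := (mk2_inj.1 hg1).1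
  linear_combination -this

include hq hU hV hn hc₁ hlin hP h4 in
/-- a normalised automorphism, linear on the first coordinate, acts on `U¹` by a sign -/
theorem linear_sign : ∃ ε : K, (ε = 1 ∨ ε = -1) ∧
    ∀ T U W, β (aU m T U W) = aU m (ε * T) U (ε * W) := by
  obtain ⟨c, c₃, hc, hc3, hG⟩ := linear_diag m hq β hU hV c₁ hc₁ hlin hP h4
  have hc2 : c ^ 2 = 1 := by
    apply linear_c_sq m hq β hn c
    intro u
    rw [xT_eq_aU, xT_eq_aU, hG]
    apply aU_congr <;> ring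
  obtain ⟨k, hk⟩ : ∃ k, 3 ^ (m + 1) = 2 * k + 1 := (Odd.pow (by decide) : Odd (3 ^ (m + 1)))
  have hPk : ∀ x : K, ps m x = x ^ (2 * k + 1) := by
    intro x
    rw [ps_apply, hk]
  obtain ⟨e1, e2, e3⟩ := consts_rigid h4 (ps m) k hPk (ps_ps m hq) c₁ c c₃ hc hc3 hc2
  refine ⟨c₁, e2, fun T U W => ?_⟩
  rw [hG, e1, e3, one_mul]

include hq in
/-- an automorphism fixing `U¹`, the torus and `n₀` pointwise is trivial -/
theorem eq_one_of_fix (γ : MulAut ↥(twistedG2 K (3 ^ m)))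
    (hUf : ∀ t u v : K, γ (aU m t u v) = aU m t u v) (hHf : ∀ z : Kˣ, γ (hT m hq z) = hT m hq z)
    (hnf : γ (nW m) = nW m) : γ = 1 := by
  have hUf' : ∀ x ∈ UU m, γ x = x := by
    intro x hx
    obtain ⟨t, u, v, rfl⟩ := (mem_UU_iff m hq x).1 hx
    exact hUf t u v
  have hHf' : ∀ x ∈ H0 m, γ x = x := by
    intro x hx
    obtain ⟨z, rfl⟩ := (mem_H0_iff m hq x).1 hx
    exact hHf z
  have hBf : ∀ b ∈ BB m, γ b = b := by
    intro b hb
    obtain ⟨u, hu, h, hh, rfl⟩ := BB_decomp m hq b hb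
    rw [map_mul, hUf' u hu, hHf' h hh]
  apply MulEquiv.ext
  intro g
  rw [MulAut.one_apply]
  rcases bruhat m hq g with hB | ⟨b, hb, v, hv, rfl⟩
  · exact hBf g hB
  · rw [map_mul, map_mul, hBf b hb, hnf, hUf' v hv]

include hq hU hV hn hc₁ hlin hP h4 in
/-- a normalised automorphism, linear on the first coordinate, is trivial or the conjugation by
the involution of the torus -/
theorem rigid_linear : β = 1 ∨ β = MulAut.conj (hT m hq (-1)) := by
  obtain ⟨ε, hε, hG⟩ := linear_sign m hq β hU hV hn c₁ hc₁ hlin hP h4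
  have hH := fix_H0 m hq β hU hV c₁ hc₁ hlin
  rcases hε with rfl | rfl
  · left
    apply eq_one_of_fix m hq β _ hH hn
    intro t u v
    rw [hG]
    apply aU_congr <;> ring
  · right
    have hconj : ∀ t u v : K, hT m hq (-1) * aU m t u v * (hT m hq (-1))⁻¹ =
        aU m (-1 * t) u (-1 * v) := by
      intro t u v
      rw [hT_conj_aU m hq, chi6_neg_one, ReeCent.chi10_neg_one]
      apply aU_congr
      · rfl
      · ring
      · simp
    have hγ : MulAut.conj (hT m hq (-1)) * β = 1 := by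
      apply eq_one_of_fix m hq
      · intro t u v
        rw [MulAut.mul_apply, hG, MulAut.conj_apply, hconj]
        apply aU_congr <;> ring
      · intro z
        rw [MulAut.mul_apply, hH, MulAut.conj_apply, ← hT_mul, ← hT_inv, ← hT_mul]
        congr 1
        rw [mul_comm, ← mul_assoc, inv_mul_cancel, one_mul]
      · rw [MulAut.mul_apply, hn, MulAut.conj_apply, comm_a_nW m hq, mul_assoc, mul_inv_cancel,
          mul_one]
    have e : β = (MulAut.conj (hT m hq (-1)))⁻¹ := (mul_eq_one_iff_inv_eq.1 hγ).symm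
    rw [e, ← map_inv, ← hT_inv]
    congr 2

end linear

section semilin

variable (β : MulAut ↥(twistedG2 K (3 ^ m))) (hU : Pres β (UU m)) (hV : Pres β (VV m))

include hq hU hV in
/-- a normalised automorphism is semilinear on the first coordinate -/
theorem exists_semilinear : ∃ (σ : K ≃+* K) (c : K), c ≠ 0 ∧
    ∀ t : K, ∃ u v : K, β (aU m t 0 0) = aU m (c * σ t) u v := by
  have hcoord : ∀ t : K, ∃ a b c : K, β (aU m t 0 0) = aU m a b c :=
    fun t => (mem_UU_iff m hq _).1 (hU.mem (aU_mem m t 0 0))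
  choose f₁ φ ψ h1 using hcoord
  obtain ⟨u₀, hu₀⟩ := map_xT m hq β hU hV 1
  rw [xT_eq_aU, xT_eq_aU] at hu₀
  have hu₀0 : u₀ ≠ 0 := by
    rintro rfl
    rw [aU_zero m hq] at hu₀
    have h2 : aU (K := K) m 0 1 0 = 1 := by
      apply β.injective
      rw [hu₀, map_one]
    rw [← aU_zero m hq] at h2
    have := (aU_injective m _ _ _ _ _ _ h2).2.1
    exact one_ne_zero this
  have hcomm : ∀ (w t u v : K),
      aU m t u v * aU m 0 w 0 = aU m 0 w 0 * aU m t u v → w * t = 0 := by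
    intro w t u v h
    rw [aU_mul_ps m hq, aU_mul_ps m hq] at h
    have := (aU_injective m _ _ _ _ _ _ h).2.2
    simp only [map_zero] at this
    linear_combination this
  have hcomm' : ∀ (w u v : K), aU m 0 u v * aU m 0 w 0 = aU m 0 w 0 * aU m 0 u v := by
    intro w u v
    rw [aU_mul_ps m hq, aU_mul_ps m hq]
    apply aU_congr
    · ring
    · simp only [map_zero]
      ring
    · simp only [map_zero]
      ring
  have hN : ∀ u v : K, ∃ u' v' : K, β (aU m 0 u v) = aU m 0 u' v' := by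
    intro u v
    obtain ⟨a, b, c, habc⟩ := (mem_UU_iff m hq _).1 (hU.mem (aU_mem m 0 u v))
    have := congrArg β (hcomm' 1 u v)
    rw [map_mul, map_mul, hu₀, habc] at this
    have ha := hcomm u₀ a b c this
    have ha0 : a = 0 := by
      rcases mul_eq_zero.1 ha with h | h
      · exact absurd h hu₀0
      · exact h
    subst ha0
    exact ⟨b, c, habc⟩
  have hadd : ∀ t t', f₁ (t + t') = f₁ t + f₁ t' := by
    intro t t'
    have e : aU m t 0 0 * aU m t' 0 0 = aU m (t + t') 0 0 *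
        aU m 0 (-(t * ps m t')) (t * ps m t' * t' - t ^ 2 * ps m t') := by
      rw [aU_mul_ps m hq, aU_mul_ps m hq]
      apply aU_congr
      · ring
      · simp only [map_zero]
        ring
      · simp only [map_zero]
        ring
    obtain ⟨u', v', hN'⟩ := hN (-(t * ps m t')) (t * ps m t' * t' - t ^ 2 * ps m t')
    have e2 := congrArg β e
    rw [map_mul, map_mul, h1, h1, h1, hN', aU_mul_ps m hq, aU_mul_ps m hq] at e2
    have := (aU_injective m _ _ _ _ _ _ e2).1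
    linear_combination -this
  have h10 : f₁ 1 ≠ 0 := by
    intro h0
    have e := h1 1
    rw [h0] at e
    have e2 := hcomm' u₀ (φ 1) (ψ 1)
    rw [← e, ← hu₀, ← map_mul, ← map_mul] at e2
    have e3 := β.injective e2
    have := hcomm 1 1 0 0 e3
    rw [mul_one] at this
    exact one_ne_zero this
  have hsemi : ∀ s : K, s ≠ 0 → ∃ μ : K, ∀ t, f₁ (s * t) = μ * f₁ t := by
    intro s hs
    obtain ⟨z, hzc⟩ := exists_torus_s m hq s hs
    have hz1 : β (hT m hq z) ∈ H0 m := (pres_H0 m hq β hU hV).mem (hT_mem m hq z)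
    obtain ⟨z', hz'⟩ := (mem_H0_iff m hq _).1 hz1
    refine ⟨chi chevG2 (hzF m z') 6, fun t => ?_⟩
    have e := hzc t 0 0
    rw [mul_zero, mul_zero] at e
    have e2 := congrArg β e
    rw [map_mul, map_mul, map_inv, hz', h1, h1, hT_conj_aU m hq] at e2
    exact ((aU_injective m _ _ _ _ _ _ e2).1).symm
  obtain ⟨σ, hσ⟩ := exists_ringEquiv_of_semilinear f₁ hadd h10 hsemi
  refine ⟨σ, f₁ 1, h10, fun t => ⟨φ t, ψ t, ?_⟩⟩
  rw [h1, hσ t]

include hq hU hV in
/-- **Rigidity**: a normalised automorphism of `²G₂(q)` is a field automorphism, possibly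
followed by the conjugation by the involution of the torus -/
theorem rigid (hn : β (nW m) = nW m) (hP : ∃ s : K, ps m s ≠ s)
    (h4 : Fintype.card K % 4 = 3) :
    ∃ σ : K ≃+* K, β = fieldAutR σ (3 ^ m) ∨
      β = fieldAutR σ (3 ^ m) * MulAut.conj (hT m hq (-1)) := by
  obtain ⟨σ, c, hc, hσ⟩ := exists_semilinear m hq β hU hV
  have hU' : Pres (fieldAutR σ.symm (3 ^ m) * β) (UU m) :=
    (pres_fieldAutR_UU m hq σ.symm).mul hU
  have hV' : Pres (fieldAutR σ.symm (3 ^ m) * β) (VV m) :=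
    (pres_fieldAutR_VV m hq σ.symm).mul hV
  have hn' : (fieldAutR σ.symm (3 ^ m) * β) (nW m) = nW m := by
    rw [MulAut.mul_apply, hn, fieldAutR_nW]
  have hlin' : ∀ t : K, ∃ u v : K,
      (fieldAutR σ.symm (3 ^ m) * β) (aU m t 0 0) = aU m (σ.symm c * t) u v := by
    intro t
    obtain ⟨u, v, h⟩ := hσ t
    refine ⟨σ.symm u, σ.symm v, ?_⟩
    rw [MulAut.mul_apply, h, fieldAutR_aU, map_mul, σ.symm_apply_apply]
  have hc' : σ.symm c ≠ 0 := (map_ne_zero_iff _ σ.symm.injective).2 hc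
  have hinv : fieldAutR σ (3 ^ m) * fieldAutR σ.symm (3 ^ m) = 1 := by
    apply MulEquiv.ext
    intro x
    rw [MulAut.mul_apply, MulAut.one_apply]
    have := fieldAutR_symm_apply σ.symm (3 ^ m) x
    rwa [RingEquiv.symm_symm] at this
  have hβ : fieldAutR σ (3 ^ m) * (fieldAutR σ.symm (3 ^ m) * β) = β := by
    rw [← mul_assoc, hinv, one_mul]
  refine ⟨σ, ?_⟩
  rcases rigid_linear m hq _ hU' hV' hn' (σ.symm c) hc' hlin' hP h4 with h | h
  · left
    rw [← hβ, h, mul_one]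
  · right
    rw [← hβ, h]

end semilin

end Cfsg.Agent.Lib.Helper5.ReeOut
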