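import Mathlib
import Cfsg.Prelude.Def_ChevStructure
import Cfsg.Prelude.Def_LieTwisted
import Cfsg.Prelude.Def_KGroupFacts
import Cfsg.Agent.Lib.Helper5.ReeOut.Rigid

set_option autoImplicit false

/-!
The outer automorphism group of the Ree group `²G₂(q)`, `q = 3^(2m+1)`, `m ≥ 1`, has order
`2m+1`.
-/

namespace Cfsg.Agent.Lib.Helper5.ReeOut

open Cfsg Cfsg.Lie Cfsg.Agent.Lib.Helper5.ChevSym Cfsg.Agent.Lib.Helper5.ChevSymP
  Cfsg.Agent.Lib.Helper5.ChevStruct Cfsg.Agent.Lib.Helper5.Ree Cfsg.Agent.Lib.Helper5.PSL2Solv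
  Cfsg.Agent.Lib.Helper5.ReeCent Cfsg.Agent.Lib.Helper5.ReeTori

variable {K : Type*} [Field K] [Fintype K] (m : ℕ)

/-- the number of automorphisms of the field with `3^(2m+1)` elements -/
theorem card_ringEquiv_three (hK : Fintype.card K = 3 ^ (2 * m + 1)) :
    Nat.card (K ≃+* K) = 2 * m + 1 := by
  have : CharP K 3 := charP_of_card hK
  let _ : Algebra (ZMod 3) K := ZMod.algebra K 3
  have hcomm : ∀ (σ : K ≃+* K) (x : ZMod 3),
      σ (algebraMap (ZMod 3) K x) = algebraMap (ZMod 3) K x := by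
    intro σ x
    have : ((σ : K →+* K).comp (algebraMap (ZMod 3) K)) = algebraMap (ZMod 3) K :=
      Subsingleton.elim _ _
    exact congrArg (fun f : ZMod 3 →+* K => f x) this
  let E : (K ≃+* K) ≃ (K ≃ₐ[ZMod 3] K) :=
    { toFun := fun σ => AlgEquiv.ofRingEquiv (f := σ) (hcomm σ)
      invFun := fun e => e.toRingEquiv
      left_inv := fun σ => by ext x; rfl
      right_inv := fun e => by ext x; rfl }
  rw [Nat.card_congr E]
  have hbij := FiniteField.bijective_frobeniusAlgEquivOfAlgebraic_pow (ZMod 3) K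
  rw [← Nat.card_congr (Equiv.ofBijective _ hbij), Nat.card_eq_fintype_card, Fintype.card_fin]
  have hcard := Module.card_eq_pow_finrank (K := ZMod 3) (V := K)
  rw [ZMod.card, hK] at hcard
  exact (Nat.pow_right_injective (le_refl 2 |>.trans (by norm_num)) hcard).symm

/-- the twisting endomorphism is not the identity -/
theorem exists_ps_ne [CharP K 3] (hm : 1 ≤ m) (hK : Fintype.card K = 3 ^ (2 * m + 1)) :
    ∃ s : K, ps m s ≠ s := by
  have h1 : 1 < 3 ^ (m + 1) := Nat.one_lt_pow (by omega) (by norm_num)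
  have h2 : 3 ^ (m + 1) < Fintype.card K := by
    rw [hK]
    exact Nat.pow_lt_pow_right (by norm_num) (by omega)
  obtain ⟨x, -, hx⟩ := exists_pow_ne (K := K) (3 ^ (m + 1)) 1 one_pos h1 h2
  refine ⟨x, ?_⟩
  rw [ps_apply]
  rwa [pow_one] at hx

/-- the outer automorphism group of `²G₂(q)` -/
theorem card_out_ree (hm : 1 ≤ m) (hK : Fintype.card K = 3 ^ (2 * m + 1)) :
    Nat.card (Cfsg.Out ↥(twistedG2 K (3 ^ m))) = 2 * m + 1 := by
  have : CharP K 3 := charP_of_card hK
  have hq := pow_card_eq hK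
  have h4 : Fintype.card K % 4 = 3 := by
    have := card_mod_eight m hK
    omega
  have hP := exists_ps_ne m hm hK
  rw [← card_ringEquiv_three m hK]
  symm
  let Ψ : (K ≃+* K) → Cfsg.Out ↥(twistedG2 K (3 ^ m)) :=
    fun σ => QuotientGroup.mk (fieldAutR σ (3 ^ m))
  apply Nat.card_congr (Equiv.ofBijective Ψ ⟨?_, ?_⟩)
  · -- injective
    intro σ τ hστ
    have h1 : (fieldAutR σ (3 ^ m))⁻¹ * fieldAutR τ (3 ^ m) ∈ Cfsg.Inn ↥(twistedG2 K (3 ^ m)) :=
      QuotientGroup.eq.mp hστ
    obtain ⟨g, hg⟩ := h1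
    have hgx : ∀ x, g * x * g⁻¹ = fieldAutR σ.symm (3 ^ m) (fieldAutR τ (3 ^ m) x) := by
      intro x
      have := congrArg (fun f : MulAut ↥(twistedG2 K (3 ^ m)) => f x) hg
      simp only [MulAut.conj_apply, MulAut.mul_apply] at this
      exact this
    have hpU : Pres (MulAut.conj g) (UU m) := by
      have : MulAut.conj g = fieldAutR σ.symm (3 ^ m) * fieldAutR τ (3 ^ m) := by
        apply MulEquiv.ext
        intro x
        rw [MulAut.conj_apply, MulAut.mul_apply, hgx]
      rw [this]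
      exact (pres_fieldAutR_UU m hq σ.symm).mul (pres_fieldAutR_UU m hq τ)
    have hpV : Pres (MulAut.conj g) (VV m) := by
      have : MulAut.conj g = fieldAutR σ.symm (3 ^ m) * fieldAutR τ (3 ^ m) := by
        apply MulEquiv.ext
        intro x
        rw [MulAut.conj_apply, MulAut.mul_apply, hgx]
      rw [this]
      exact (pres_fieldAutR_VV m hq σ.symm).mul (pres_fieldAutR_VV m hq τ)
    have hgH : g ∈ H0 m := by
      rw [H0_eq_inf m hq, BB_eq_normalizer m hq]
      refine Subgroup.mem_inf.2 ⟨?_, ?_⟩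
      · rw [Subgroup.mem_normalizer_iff]
        intro x
        have := hpU x
        rw [MulAut.conj_apply] at this
        exact this.symm
      · rw [Subgroup.mem_normalizer_iff]
        intro x
        have := hpV x
        rw [MulAut.conj_apply] at this
        exact this.symm
    obtain ⟨z, rfl⟩ := (mem_H0_iff m hq g).1 hgH
    have h5 : ∀ t : K, chi chevG2 (hzF m z) 6 * t = σ.symm (τ t) := by
      intro t
      have := hgx (aU m t 0 0)
      rw [hT_conj_aU m hq, fieldAutR_aU, fieldAutR_aU] at this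
      exact (aU_injective m _ _ _ _ _ _ this).1
    have h6 : chi chevG2 (hzF m z) 6 = 1 := by
      have := h5 1
      simpa using this
    apply RingEquiv.ext
    intro t
    have h7 := h5 t
    rw [h6, one_mul] at h7
    have h8 := congrArg σ h7
    rw [RingEquiv.apply_symm_apply] at h8
    exact h8
  · -- surjective
    intro c
    obtain ⟨α, rfl⟩ := QuotientGroup.mk_surjective c
    obtain ⟨g, β, hβ, hU, hV, hn⟩ := exists_normalized m hK α
    obtain ⟨σ, hσ⟩ := rigid m hq β hU hV hn hP h4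
    refine ⟨σ, ?_⟩
    have hinn : ∀ x : ↥(twistedG2 K (3 ^ m)),
        (QuotientGroup.mk (MulAut.conj x) : Cfsg.Out ↥(twistedG2 K (3 ^ m))) = 1 :=
      fun x => (QuotientGroup.eq_one_iff _).2 ⟨x, rfl⟩
    have e1 : (QuotientGroup.mk β : Cfsg.Out ↥(twistedG2 K (3 ^ m))) = QuotientGroup.mk α := by
      rw [hβ, QuotientGroup.mk_mul, hinn, one_mul]
    show (QuotientGroup.mk (fieldAutR σ (3 ^ m)) : Cfsg.Out ↥(twistedG2 K (3 ^ m))) = _
    rw [← e1]
    rcases hσ with h | h
    · rw [h]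
    · rw [h, QuotientGroup.mk_mul, hinn, mul_one]

end Cfsg.Agent.Lib.Helper5.ReeOut
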